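import Cfsg.Prelude.Def_SolvableStructure
import Mathlib.GroupTheory.Solvable
import Mathlib.GroupTheory.SpecificGroups.Cyclic
import Mathlib.GroupTheory.QuotientGroup.Basic

/-!
Supersolvable groups: an inductive description of the defining chains, closure under subgroups,
quotients, products and cyclic extensions, and induction along normal subgroups of prime order.
-/

set_option autoImplicit false

namespace Cfsg.Agent.Supersolvable

open Subgroup

universe u v

variable {G : Type u} [Group G] {G' : Type v} [Group G']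

/-- `Reach H`: `H` is reached from `⊥` by a chain of normal subgroups of `G`, each obtained from
the preceding one by adjoining one element. -/
inductive Reach : Subgroup G → Prop where
  | bot : Reach ⊥
  | step (H : Subgroup G) (g : G) : Reach H → (H ⊔ zpowers g).Normal → Reach (H ⊔ zpowers g)

theorem Reach.normal {H : Subgroup G} (h : Reach H) : H.Normal := by
  cases h with
  | bot => infer_instance
  | step H g _ hn => exact hn

theorem Reach.exists_chain {K : Subgroup G} (h : Reach K) :
    ∃ (n : ℕ) (H : Fin (n + 1) → Subgroup G), H 0 = ⊥ ∧ H (Fin.last n) = K ∧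
      (∀ i, (H i).Normal) ∧ ∀ i : Fin n, ∃ g : G, H i.succ = H i.castSucc ⊔ zpowers g := by
  induction h with
  | bot => exact ⟨0, fun _ => ⊥, rfl, rfl, fun _ => inferInstance, fun i => i.elim0⟩
  | step K g _ hn ih =>
    obtain ⟨n, H, h0, hl, hN, hs⟩ := ih
    refine ⟨n + 1, Fin.snoc H (K ⊔ zpowers g), ?_, Fin.snoc_last _ _, ?_, ?_⟩
    · rw [← Fin.castSucc_zero, Fin.snoc_castSucc, h0]
    · intro i
      refine Fin.lastCases ?_ (fun j => ?_) i
      · simp only [Fin.snoc_last]; exact hn
      · simp only [Fin.snoc_castSucc]; exact hN j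
    · intro i
      refine Fin.lastCases ?_ (fun j => ?_) i
      · refine ⟨g, ?_⟩
        rw [Fin.succ_last, Fin.snoc_last, Fin.snoc_castSucc, hl]
      · obtain ⟨x, hx⟩ := hs j
        refine ⟨x, ?_⟩
        rw [Fin.succ_castSucc, Fin.snoc_castSucc, Fin.snoc_castSucc, hx]

theorem isSupersolvable_iff : Cfsg.IsSupersolvable G ↔ Reach (⊤ : Subgroup G) := by
  refine ⟨fun ⟨n, H, h0, hl, hN, hs⟩ => ?_, fun h => h.exists_chain⟩
  rw [← hl]
  refine Fin.induction (motive := fun i => Reach (H i)) ?_ (fun i ih => ?_) (Fin.last n)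
  · rw [h0]; exact Reach.bot
  · obtain ⟨g, hg⟩ := hs i
    rw [hg]
    exact Reach.step _ g ih (hg ▸ hN i.succ)

/-- Images under surjective homomorphisms. -/
theorem Reach.map {f : G →* G'} (hf : Function.Surjective f) {H : Subgroup G} (h : Reach H) :
    Reach (H.map f) := by
  induction h with
  | bot => rw [Subgroup.map_bot]; exact Reach.bot
  | step H g _ hn ih =>
    have : ((H ⊔ zpowers g).map f) = H.map f ⊔ zpowers (f g) := by
      rw [Subgroup.map_sup, MonoidHom.map_zpowers]
    rw [this]
    exact Reach.step _ (f g) ih (this ▸ hn.map f hf)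

/-- A cyclic step pulls back to a cyclic step along any homomorphism. -/
theorem exists_comap_step (f : G' →* G) {H : Subgroup G} [hH : H.Normal] (g : G) :
    ∃ k : G', (H ⊔ zpowers g).comap f = H.comap f ⊔ zpowers k := by
  let S : Subgroup G' := (H ⊔ zpowers g).comap f
  let π : G' →* G ⧸ H := (QuotientGroup.mk' H).comp f
  have hle : S.map π ≤ zpowers (QuotientGroup.mk' H g) := by
    rintro _ ⟨x, hx, rfl⟩
    have := Subgroup.mem_map_of_mem (QuotientGroup.mk' H) (Subgroup.mem_comap.mp hx)
    rw [Subgroup.map_sup, QuotientGroup.map_mk'_self, bot_sup_eq, MonoidHom.map_zpowers] at this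
    exact this
  have hc : IsCyclic (S.map π) :=
    isCyclic_of_injective (Subgroup.inclusion hle) (Subgroup.inclusion_injective _)
  obtain ⟨⟨_, k, hk, rfl⟩, hgen⟩ := hc.exists_generator
  refine ⟨k, le_antisymm ?_ (sup_le (comap_mono le_sup_left) (zpowers_le.mpr hk))⟩
  intro x hx
  obtain ⟨n, hn⟩ := mem_zpowers_iff.mp (hgen ⟨π x, mem_map_of_mem π hx⟩)
  have hn' : π (k ^ n) = π x := by
    rw [map_zpow]
    exact congrArg Subtype.val hn
  have h1 : x * (k ^ n)⁻¹ ∈ H.comap f := by
    rw [mem_comap, ← QuotientGroup.eq_one_iff, map_mul, map_inv]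
    show (QuotientGroup.mk' H) (f x * (f (k ^ n))⁻¹) = 1
    rw [map_mul, map_inv]
    exact mul_inv_eq_one.mpr hn'.symm
  simpa using mul_mem_sup h1 (zpow_mem (mem_zpowers k) n)

/-- Preimages: if the kernel is reached then so is the preimage of a reached subgroup. -/
theorem Reach.comap (f : G' →* G) (hker : Reach f.ker) {H : Subgroup G} (h : Reach H) :
    Reach (H.comap f) := by
  induction h with
  | bot => rwa [MonoidHom.comap_bot]
  | step H g hH hn ih =>
    have := hH.normal
    obtain ⟨k, hk⟩ := exists_comap_step f (H := H) g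
    have hn' : ((H ⊔ zpowers g).comap f).Normal := hn.comap f
    rw [hk] at hn' ⊢
    exact Reach.step _ k ih hn'

theorem of_surjective (h : Cfsg.IsSupersolvable G) (f : G →* G') (hf : Function.Surjective f) :
    Cfsg.IsSupersolvable G' := by
  rw [isSupersolvable_iff] at h ⊢
  simpa [Subgroup.map_top_of_surjective f hf] using h.map hf

theorem of_injective (h : Cfsg.IsSupersolvable G) (f : G' →* G) (hf : Function.Injective f) :
    Cfsg.IsSupersolvable G' := by
  rw [isSupersolvable_iff] at h ⊢
  have hker : Reach f.ker := by rw [(f.ker_eq_bot_iff).mpr hf]; exact Reach.bot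
  simpa using Reach.comap f hker h

theorem subgroup (h : Cfsg.IsSupersolvable G) (H : Subgroup G) : Cfsg.IsSupersolvable H :=
  of_injective h H.subtype H.subtype_injective

theorem quotient (h : Cfsg.IsSupersolvable G) (N : Subgroup G) [N.Normal] :
    Cfsg.IsSupersolvable (G ⧸ N) :=
  of_surjective h _ (QuotientGroup.mk'_surjective N)

theorem of_mulEquiv (h : Cfsg.IsSupersolvable G) (e : G ≃* G') : Cfsg.IsSupersolvable G' :=
  of_surjective h e.toMonoidHom e.surjective

theorem of_reach_ker (f : G →* G') (hker : Reach f.ker) (h : Cfsg.IsSupersolvable G') :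
    Cfsg.IsSupersolvable G := by
  rw [isSupersolvable_iff] at h ⊢
  simpa using Reach.comap f hker h

theorem reach_of_isCyclic (N : Subgroup G) [hN : N.Normal] [IsCyclic N] : Reach N := by
  obtain ⟨g, hg⟩ := (isCyclic_iff_exists_zpowers_eq_top (α := N)).mp inferInstance
  have : N = ⊥ ⊔ zpowers (g : G) := by
    rw [bot_sup_eq, ← N.coe_subtype, ← MonoidHom.map_zpowers, hg, ← MonoidHom.range_eq_map,
      range_subtype]
  rw [this]
  exact Reach.step _ _ Reach.bot (this ▸ hN)

/-- Extension by a cyclic normal subgroup. -/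
theorem of_isCyclic_normal (N : Subgroup G) [N.Normal] [IsCyclic N]
    (h : Cfsg.IsSupersolvable (G ⧸ N)) : Cfsg.IsSupersolvable G :=
  of_reach_ker (QuotientGroup.mk' N)
    (by rw [QuotientGroup.ker_mk']; exact reach_of_isCyclic N) h

theorem of_subsingleton [Subsingleton G] : Cfsg.IsSupersolvable G := by
  rw [isSupersolvable_iff, Subsingleton.elim (⊤ : Subgroup G) ⊥]
  exact Reach.bot

theorem prod (hG : Cfsg.IsSupersolvable G) (hG' : Cfsg.IsSupersolvable G') :
    Cfsg.IsSupersolvable (G × G') := by
  refine of_reach_ker (MonoidHom.snd G G') ?_ hG'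
  rw [isSupersolvable_iff] at hG
  have key : ∀ H : Subgroup G, Reach H → Reach (H.map (MonoidHom.inl G G')) := by
    intro H h
    induction h with
    | bot => rw [Subgroup.map_bot]; exact Reach.bot
    | step H g hH hn ih =>
      have hn' : ((H ⊔ zpowers g).map (MonoidHom.inl G G')).Normal := by
        constructor
        rintro _ ⟨x, hx, rfl⟩ ⟨a, b⟩
        exact ⟨a * x * a⁻¹, hn.conj_mem x hx a, by simp⟩
      rw [Subgroup.map_sup, MonoidHom.map_zpowers] at hn' ⊢
      exact Reach.step _ _ ih hn'
  have := key ⊤ hG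
  rwa [show (MonoidHom.snd G G').ker = (⊤ : Subgroup G).map (MonoidHom.inl G G') by
    ext ⟨a, b⟩; simp [Subgroup.mem_prod, Prod.ext_iff, eq_comm]]

theorem of_isCyclic [IsCyclic G] : Cfsg.IsSupersolvable G := by
  have : IsCyclic (⊤ : Subgroup G) :=
    isCyclic_of_surjective Subgroup.topEquiv.symm.toMonoidHom Subgroup.topEquiv.symm.surjective
  exact isSupersolvable_iff.mpr (reach_of_isCyclic ⊤)

theorem isSolvable (h : Cfsg.IsSupersolvable G) : Group.IsSolvable G := by
  rw [isSupersolvable_iff] at h
  suffices ∀ H : Subgroup G, Reach H → Group.IsSolvable H by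
    have := this ⊤ h
    exact Group.isSolvable_of_surjective (f := (⊤ : Subgroup G).subtype) (fun x => ⟨⟨x, trivial⟩, rfl⟩)
  intro H hH
  induction hH with
  | bot => infer_instance
  | step H g hH hn ih =>
    have := hH.normal
    let f : ↥(H ⊔ zpowers g) →* G ⧸ H := (QuotientGroup.mk' H).comp (H ⊔ zpowers g).subtype
    have hr : f.range ≤ zpowers (QuotientGroup.mk' H g) := by
      rintro _ ⟨⟨x, hx⟩, rfl⟩
      have := Subgroup.mem_map_of_mem (QuotientGroup.mk' H) hx
      rwa [Subgroup.map_sup, QuotientGroup.map_mk'_self, bot_sup_eq, MonoidHom.map_zpowers] at this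
    have : Group.IsSolvable (zpowers (QuotientGroup.mk' H g)) :=
      Group.isSolvable_of_comm fun a b => Subtype.ext (setLike_mul_comm a.2 b.2)
    have : Group.IsSolvable f.range :=
      Group.isSolvable_of_isSolvable_injective (f := Subgroup.inclusion hr) (Subgroup.inclusion_injective _)
    refine Group.isSolvable_of_ker_le_range (f := Subgroup.inclusion (le_sup_left : H ≤ H ⊔ zpowers g)) (g := f.rangeRestrict) ?_
    intro x hx
    rw [MonoidHom.ker_rangeRestrict, MonoidHom.mem_ker] at hx
    exact ⟨⟨x, (QuotientGroup.eq_one_iff _).mp hx⟩, rfl⟩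

/-- Every subgroup of a cyclic group is characteristic. -/
theorem characteristic_of_isCyclic [IsCyclic G] (H : Subgroup G) : H.Characteristic := by
  rw [characteristic_iff_map_le]
  rintro φ _ ⟨x, hx, rfl⟩
  obtain ⟨m, hm⟩ := MonoidHom.map_cyclic φ.toMonoidHom
  rw [hm]
  exact zpow_mem hx m

/-- A nontrivial normal subgroup of a finite supersolvable group contains a normal subgroup of
prime order. -/
theorem exists_prime_normal_le [Finite G] (h : Cfsg.IsSupersolvable G) (M : Subgroup G)
    [hM : M.Normal] (hne : M ≠ ⊥) :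
    ∃ N : Subgroup G, N.Normal ∧ N ≤ M ∧ (Nat.card N).Prime := by
  rw [isSupersolvable_iff] at h
  suffices ∀ H : Subgroup G, Reach H → H ⊓ M = ⊥ ∨
      ∃ N : Subgroup G, N.Normal ∧ N ≤ M ∧ (Nat.card N).Prime by
    simpa [hne] using this ⊤ h
  intro H hH
  induction hH with
  | bot => exact Or.inl (bot_inf_eq _)
  | step H g hH hn ih =>
    rcases ih with ih | ih
    swap
    · exact Or.inr ih
    by_cases h0 : (H ⊔ zpowers g) ⊓ M = ⊥
    · exact Or.inl h0
    refine Or.inr ?_
    have := hH.normal
    set T := (H ⊔ zpowers g) ⊓ M with hT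
    have hTn : T.Normal := inferInstance
    let f : T →* G ⧸ H := (QuotientGroup.mk' H).comp T.subtype
    have hinj : Function.Injective f := by
      rw [injective_iff_map_eq_one]
      rintro ⟨x, hx⟩ hfx
      have : x ∈ H ⊓ M := ⟨(QuotientGroup.eq_one_iff x).mp hfx, hx.2⟩
      rw [ih] at this
      exact Subtype.ext this
    have hr : ∀ t : T, f t ∈ zpowers (QuotientGroup.mk' H g) := by
      rintro ⟨x, hx⟩
      have := Subgroup.mem_map_of_mem (QuotientGroup.mk' H) hx.1
      rwa [Subgroup.map_sup, QuotientGroup.map_mk'_self, bot_sup_eq, MonoidHom.map_zpowers] at this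
    have hc : IsCyclic T := isCyclic_of_injective (f.codRestrict _ hr)
      (fun a b e => hinj (congrArg Subtype.val e))
    have hne1 : Nat.card T ≠ 1 := fun e => h0 (card_eq_one.mp e)
    obtain ⟨p, hp, hpd⟩ := Nat.exists_prime_and_dvd hne1
    have := Fact.mk hp
    obtain ⟨x, hx⟩ := exists_prime_orderOf_dvd_card' (G := T) p hpd
    refine ⟨(zpowers x).map T.subtype, ?_, (map_subtype_le _).trans inf_le_right, ?_⟩
    · exact ConjAct.normal_of_characteristic_of_normal (H := T)
        (h := characteristic_of_isCyclic _)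
    · rw [card_map_of_injective T.subtype_injective, Nat.card_zpowers, hx]
      exact hp

/-- Induction: a finite nontrivial supersolvable group has a normal subgroup of prime order. -/
theorem exists_prime_normal [Finite G] [Nontrivial G] (h : Cfsg.IsSupersolvable G) :
    ∃ N : Subgroup G, N.Normal ∧ (Nat.card N).Prime := by
  obtain ⟨N, hN, -, hp⟩ := exists_prime_normal_le h ⊤ top_ne_bot
  exact ⟨N, hN, hp⟩

/-- Extension by a normal subgroup of prime order. -/
theorem of_prime_normal (N : Subgroup G) [N.Normal] (hp : (Nat.card N).Prime)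
    (h : Cfsg.IsSupersolvable (G ⧸ N)) : Cfsg.IsSupersolvable G := by
  have := Fact.mk hp
  have : IsCyclic N := isCyclic_of_prime_card rfl
  exact of_isCyclic_normal N h

theorem card_quotient_lt [Finite G] (N : Subgroup G) [N.Normal] (hN : 1 < Nat.card N) :
    Nat.card (G ⧸ N) < Nat.card G := by
  rw [card_eq_card_quotient_mul_card_subgroup N]
  exact lt_mul_of_one_lt_right Nat.card_pos hN

end Cfsg.Agent.Supersolvable
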