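import Cfsg.Agent.Lib.Supersolvable.StronglyClosed
import Cfsg.Agent.Lib.Coprime.Quotient
import Cfsg.Agent.Lib.Solvable.Basic
import Mathlib.GroupTheory.SchurZassenhaus
import Mathlib.GroupTheory.Coset.Card

/-!
Huppert's criterion.

* `centralizes_of_powResidual`: in a supersolvable group the `q'`-elements of `powResidual q G`
  centralise every normal `q`-subgroup
* `sylow_normal_of_prime_index`, `isSupersolvable_of_prime_index`
-/

set_option autoImplicit false
set_option linter.style.haveILetI false

namespace Cfsg.Agent.Supersolvable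

open Subgroup
open scoped Pointwise commutatorElement

universe u

private theorem centralizes_aux {q : ℕ} [Fact q.Prime] : ∀ (k : ℕ) (G : Type u) [Group G] [Finite G],
    Nat.card G = k → Cfsg.IsSupersolvable G → ∀ Q : Subgroup G, Q.Normal → IsPGroup q Q →
    ∀ x ∈ powResidual q G, (orderOf x).Coprime q → x ∈ centralizer (Q : Set G) := by
  intro k
  induction k using Nat.strong_induction_on with
  | _ k IH =>
  intro G _ _ hk hG Q hQn hQ x hx hco
  subst hk
  haveI := hQn
  by_cases hQ1 : Q = ⊥
  · rw [hQ1, mem_centralizer_iff]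
    intro y hy
    rw [SetLike.mem_coe, mem_bot] at hy
    rw [hy, one_mul, mul_one]
  obtain ⟨L, hLn, hLQ, hLp⟩ := exists_prime_normal_le hG Q hQ1
  haveI := hLn
  haveI := Fact.mk hLp
  haveI : IsCyclic L := isCyclic_of_prime_card rfl
  obtain ⟨⟨y, hy⟩, hgen⟩ := IsCyclic.exists_generator (α := L)
  have hzy : zpowers y = L := by
    refine le_antisymm (zpowers_le.2 hy) fun z hz => ?_
    obtain ⟨i, hi⟩ := mem_zpowers_iff.1 (hgen ⟨z, hz⟩)
    exact mem_zpowers_iff.2 ⟨i, congrArg Subtype.val hi⟩
  obtain ⟨i, hi⟩ := IsPGroup.iff_card.1 (hQ.to_le hLQ)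
  have hxy : Commute x y := commute_of_mem_powResidual (i := i)
    (by rw [← Nat.card_zpowers, hzy, hi]) (by rw [hzy]; exact hLn) hx hco
  have hxL : zpowers x ≤ centralizer (L : Set G) := by
    rw [zpowers_le, ← hzy, mem_centralizer_iff]
    intro z hz
    obtain ⟨j, rfl⟩ := mem_zpowers_iff.1 hz
    exact (hxy.zpow_right j).eq.symm
  have hlt : Nat.card (G ⧸ L) < Nat.card G := card_quotient_lt L hLp.one_lt
  have himg := IH _ hlt (G ⧸ L) rfl (quotient hG L) (Q.map (QuotientGroup.mk' L))
    (hQn.map _ (QuotientGroup.mk'_surjective L)) (hQ.map _) (QuotientGroup.mk' L x)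
    (map_powResidual_le q _ (mem_map_of_mem _ hx))
    (Nat.Coprime.coprime_dvd_left (orderOf_map_dvd _ x) hco)
  have hcomm : ⁅Q, zpowers x⁆ ≤ L := by
    rw [commutator_le]
    intro a ha b hb
    obtain ⟨j, rfl⟩ := mem_zpowers_iff.1 hb
    have h1 : Commute (QuotientGroup.mk' L a) (QuotientGroup.mk' L x) :=
      mem_centralizer_iff.1 himg _ (mem_map_of_mem _ ha)
    rw [← QuotientGroup.eq_one_iff (N := L)]
    show QuotientGroup.mk' L ⁅a, x ^ j⁆ = 1
    rw [map_commutatorElement, map_zpow]
    exact commutatorElement_eq_one_iff_mul_comm.2 (h1.zpow_right j).eq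
  obtain ⟨e, he⟩ := IsPGroup.iff_card.1 hQ
  exact Coprime.le_centralizer_of_series (by rw [normalizer_eq_top]; exact le_top)
    (by rw [he, Nat.card_zpowers]; exact Nat.Coprime.pow_right e hco)
    (Or.inl inferInstance) hcomm hxL (mem_zpowers x)

/-- In a supersolvable group, `q'`-elements of `powResidual q G` centralise normal `q`-subgroups. -/
theorem centralizes_of_powResidual {G : Type u} [Group G] [Finite G] (hG : Cfsg.IsSupersolvable G)
    {q : ℕ} [Fact q.Prime] {Q : Subgroup G} [hQn : Q.Normal] (hQ : IsPGroup q Q) {x : G}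
    (hx : x ∈ powResidual q G) (hco : (orderOf x).Coprime q) : x ∈ centralizer (Q : Set G) :=
  centralizes_aux _ G rfl hG Q hQn hQ x hx hco

variable {G : Type u} [Group G] [Finite G]

/-- If all maximal subgroups have prime index, the Sylow subgroup of the largest prime is normal. -/
theorem sylow_normal_of_prime_index (h : ∀ M : Subgroup G, IsCoatom M → M.index.Prime) (p : ℕ)
    [hp : Fact p.Prime] (hmax : ∀ r : ℕ, r.Prime → r ∣ Nat.card G → r ≤ p) (P : Sylow p G) :
    (P : Subgroup G).Normal := by
  rw [← normalizer_eq_top_iff]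
  by_contra hne
  obtain ⟨M, hM, hle⟩ := (eq_top_or_exists_le_coatom (normalizer ((P : Subgroup G) : Set G))).resolve_left hne
  have hPM : (P : Subgroup G) ≤ M := le_normalizer.trans hle
  have hq := h M hM
  have hqp : M.index ≤ p := hmax _ hq (Subgroup.index_dvd_card M)
  set Q : Sylow p M := P.subtype hPM with hQ
  have hnG := card_sylow_modEq_one (p := p) (G := G)
  have hnM := card_sylow_modEq_one (p := p) (G := M)
  have hN : (normalizer ((Q : Subgroup M) : Set M)).map M.subtype =
      normalizer ((P : Subgroup G) : Set G) := by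
    have h1 : normalizer ((Q : Subgroup M) : Set M) =
        (normalizer ((P : Subgroup G) : Set G)).subgroupOf M := by
      rw [hQ, Sylow.coe_subtype, ← Subgroup.subgroupOf_normalizer_eq hPM]
    rw [h1, map_subgroupOf_eq_of_le hle]
  have hcard : Nat.card (Sylow p G) = Nat.card (Sylow p M) * M.index := by
    rw [Sylow.card_eq_index_normalizer P, Sylow.card_eq_index_normalizer Q]
    show (normalizer ((P : Subgroup G) : Set G)).index =
      (normalizer ((Q : Subgroup M) : Set M)).index * M.index
    rw [← hN, index_map_subtype]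
  have h1 : M.index ≡ 1 [MOD p] := by
    have h2 : Nat.card (Sylow p M) * M.index ≡ 1 * M.index [MOD p] := hnM.mul_right _
    rw [← hcard, one_mul] at h2
    exact h2.symm.trans hnG
  have h2 := hq.two_le
  rcases hqp.eq_or_lt with he | he
  · rw [he] at h1
    have := h1.symm
    rw [Nat.ModEq, Nat.mod_self, Nat.one_mod_eq_one.2 hp.out.ne_one] at this
    exact one_ne_zero this
  · rw [Nat.ModEq, Nat.mod_eq_of_lt he, Nat.one_mod_eq_one.2 hp.out.ne_one] at h1
    omega

theorem prime_index_quotient (h : ∀ M : Subgroup G, IsCoatom M → M.index.Prime) (N : Subgroup G)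
    [N.Normal] : ∀ M : Subgroup (G ⧸ N), IsCoatom M → M.index.Prime := by
  intro M hM
  have hs := QuotientGroup.mk'_surjective N
  rw [← index_comap_of_surjective M hs]
  refine h _ ⟨fun he => hM.1 ?_, fun K hK => ?_⟩
  · rw [← map_comap_eq_self_of_surjective hs M, he, map_top_of_surjective _ hs]
  · have hker : (QuotientGroup.mk' N).ker ≤ K :=
      (ker_le_comap (f := QuotientGroup.mk' N) M).trans hK.le
    have h1 : M < K.map (QuotientGroup.mk' N) := by
      rw [← map_comap_eq_self_of_surjective hs M]
      refine lt_of_le_of_ne (map_mono hK.le) fun he => hK.ne ?_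
      rw [← comap_map_eq_self (ker_le_comap (f := QuotientGroup.mk' N) M), he, comap_map_eq_self hker]
    have h2 := hM.2 _ h1
    rw [← comap_map_eq_self hker, h2, comap_top]

private theorem huppert_aux : ∀ (k : ℕ) (G : Type u) [Group G] [Finite G], Nat.card G = k →
    (∀ M : Subgroup G, IsCoatom M → M.index.Prime) → Cfsg.IsSupersolvable G := by
  intro k
  induction k using Nat.strong_induction_on with
  | _ k IH =>
  intro G _ _ hk h
  subst hk
  rcases subsingleton_or_nontrivial G with hs | hnt
  · exact of_subsingleton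
  have hquot : ∀ (N : Subgroup G) [N.Normal], N ≠ ⊥ → Cfsg.IsSupersolvable (G ⧸ N) := by
    intro N _ hN
    exact IH _ (card_quotient_lt N (one_lt_card_iff_ne_bot N |>.2 hN)) (G ⧸ N) rfl
      (prime_index_quotient h N)
  -- the largest prime
  obtain ⟨p, hpmem, hmax⟩ := Finset.exists_max_image (Nat.card G).primeFactors id
    (Nat.nonempty_primeFactors.2 Finite.one_lt_card)
  have hpp : p.Prime := Nat.prime_of_mem_primeFactors hpmem
  haveI := Fact.mk hpp
  obtain ⟨P⟩ := (inferInstance : Nonempty (Sylow p G))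
  haveI hPn : (P : Subgroup G).Normal := sylow_normal_of_prime_index h p
    (fun r hr hrd => hmax r (Nat.mem_primeFactors.2 ⟨hr, hrd, Nat.card_pos.ne'⟩)) P
  have hPne : (P : Subgroup G) ≠ ⊥ :=
    P.ne_bot_of_dvd_card (Nat.dvd_of_mem_primeFactors hpmem)
  haveI : Group.IsSolvable G := by
    haveI : Group.IsSolvable (G ⧸ (P : Subgroup G)) := isSolvable (hquot (P : Subgroup G) hPne)
    haveI : Group.IsSolvable (P : Subgroup G) := by
      have := P.2.isNilpotent
      infer_instance
    exact Group.isSolvable_of_ker_le_range (P : Subgroup G).subtype (QuotientGroup.mk' (P : Subgroup G))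
      (by rw [QuotientGroup.ker_mk', range_subtype])
  obtain ⟨N, ⟨hNn, hNne, hNP⟩, hmin⟩ := (Set.toFinite
    {N : Subgroup G | N.Normal ∧ N ≠ ⊥ ∧ N ≤ (P : Subgroup G)}).exists_minimal ⟨_, hPn, hPne, le_rfl⟩
  haveI := hNn
  -- uniqueness of the minimal normal subgroup
  by_cases hex : ∃ M : Subgroup G, M.Normal ∧ M ≠ ⊥ ∧ M ⊓ N = ⊥
  · obtain ⟨M, hMn, hMne, hMN⟩ := hex
    haveI := hMn
    refine of_injective (prod (hquot M hMne) (hquot N hNne))
      ((QuotientGroup.mk' M).prod (QuotientGroup.mk' N)) ?_
    rw [← MonoidHom.ker_eq_bot_iff, MonoidHom.ker_prod, QuotientGroup.ker_mk',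
      QuotientGroup.ker_mk', hMN]
  push Not at hex
  have huniq : ∀ M : Subgroup G, M.Normal → M ⊓ N = ⊥ → M = ⊥ := fun M h1 h2 =>
    by_contra fun h3 => hex M h1 h3 h2
  -- `N` is central in `P`
  have hNmin : ∀ M : Subgroup G, M.Normal → M ≤ N → M ≠ ⊥ → M = N := fun M h1 h2 h3 =>
    le_antisymm h2 (hmin ⟨h1, h3, h2.trans hNP⟩ h2)
  have hNZ : N ≤ centralizer ((P : Subgroup G) : Set G) := by
    refine inf_eq_left.1 (hNmin _ inferInstance inf_le_left fun h0 => ?_)
    haveI := P.2.isNilpotent
    have hne : N.subgroupOf (P : Subgroup G) ≠ ⊥ := fun h1 => hNne (by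
      have := subgroupOf_eq_bot.1 h1
      rwa [disjoint_iff, inf_eq_left.2 hNP] at this)
    refine Solvable.inf_center_ne_bot hne ((eq_bot_iff_forall _).2 fun z hz => ?_)
    have hmem : (z : G) ∈ N ⊓ centralizer ((P : Subgroup G) : Set G) :=
      ⟨hz.1, mem_centralizer_iff.2 fun y hy => congrArg Subtype.val (mem_center_iff.1 hz.2 ⟨y, hy⟩)⟩
    rw [h0, mem_bot] at hmem
    exact Subtype.ext hmem
  have hNab : ∀ a ∈ N, ∀ b ∈ N, a * b = b * a := fun a ha b hb =>
    mem_centralizer_iff.1 (hNZ hb) a (hNP ha)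
  by_cases hsupp : ∃ M : Subgroup G, IsCoatom M ∧ ¬ N ≤ M
  · -- a complemented minimal normal subgroup has prime order
    obtain ⟨M, hM, hNM⟩ := hsupp
    have htop : M ⊔ N = ⊤ := hM.2 _ (lt_of_le_of_ne le_sup_left fun he => hNM (he ▸ le_sup_right))
    have hbot : N ⊓ M = ⊥ := by
      by_contra hne
      refine hNM (inf_eq_left.1 (hNmin _ ?_ inf_le_left hne))
      rw [← normalizer_eq_top_iff, eq_top_iff, ← htop, sup_le_iff]
      refine ⟨fun m hm => mem_normalizer_iff.2 fun a => ?_, fun n hn => mem_normalizer_iff.2 fun a => ?_⟩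
      · refine ⟨fun ha => ⟨hNn.conj_mem a ha.1 m, M.mul_mem (M.mul_mem hm ha.2) (M.inv_mem hm)⟩, fun ha => ?_⟩
        have h1 := hNn.conj_mem _ ha.1 m⁻¹
        have h2 := mul_mem (mul_mem (inv_mem hm) ha.2) hm
        simp only [inv_inv] at h1
        have he : m⁻¹ * (m * a * m⁻¹) * m = a := by group
        rw [he] at h1 h2
        exact ⟨h1, h2⟩
      · refine ⟨fun ha => ?_, fun ha => ?_⟩
        · rwa [hNab n hn a ha.1, mul_inv_cancel_right]
        · have haN : a ∈ N := by
            have h1 := mul_mem (mul_mem (inv_mem hn) ha.1) hn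
            rwa [show n⁻¹ * (n * a * n⁻¹) * n = a by group] at h1
          rwa [hNab n hn a haN, mul_inv_cancel_right] at ha
    have hc : IsComplement' N M := by
      refine isComplement'_of_disjoint_and_mul_eq_univ (disjoint_iff.2 hbot) ?_
      rw [← normal_mul N M, sup_comm, htop]
      rfl
    exact of_prime_normal N (hc.index_eq_card ▸ h M hM) (hquot N hNne)
  push Not at hsupp
  -- now `N` is in every maximal subgroup
  haveI := P.2.isNilpotent
  obtain ⟨H, hH⟩ := exists_right_complement'_of_coprime (N := (P : Subgroup G))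
    (P.card_coprime_index)
  have hHcop : (Nat.card H).Coprime p := by
    rw [← hH.symm.index_eq_card]
    exact (Nat.Coprime.coprime_dvd_left (P.dvd_card_of_dvd_card (Nat.dvd_of_mem_primeFactors hpmem))
      P.card_coprime_index).symm
  set K : Subgroup G := powResidual p G ⊓ H with hK
  set C : Subgroup G := (P : Subgroup G) ⊓ centralizer (K : Set G) with hC
  have hKN : K ≤ centralizer (N : Set G) := by
    by_contra hnot
    -- `H` normalises `K`, hence `C`
    have hHK : H ≤ normalizer (K : Set G) := by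
      intro x hx
      rw [mem_normalizer_iff]
      intro a
      have hR := powResidual_normal (G := G) p
      refine ⟨fun ha => ⟨hR.conj_mem a ha.1 x, H.mul_mem (H.mul_mem hx ha.2) (H.inv_mem hx)⟩, fun ha => ?_⟩
      have h1 := hR.conj_mem _ ha.1 x⁻¹
      have h2 := mul_mem (mul_mem (inv_mem hx) ha.2) hx
      simp only [inv_inv] at h1
      rw [show x⁻¹ * (x * a * x⁻¹) * x = a by group] at h1 h2
      exact ⟨h1, h2⟩
    have hPC : (P : Subgroup G) ≤ C ⊔ N := by
      have hcop : (Nat.card K).Coprime (Nat.card (P : Subgroup G)) := by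
        obtain ⟨e, he⟩ := IsPGroup.iff_card.1 P.2
        rw [he]
        exact (Nat.Coprime.coprime_dvd_left (card_dvd_of_le inf_le_right) hHcop).pow_right e
      have hm := Coprime.map_mk'_inf_centralizer N (A := K) (K := (P : Subgroup G))
        (by rw [normalizer_eq_top]; exact le_top) hcop (Or.inl inferInstance)
      have hsub : ((P : Subgroup G).map (QuotientGroup.mk' N)) ≤
          centralizer ((K.map (QuotientGroup.mk' N) : Subgroup (G ⧸ N)) : Set (G ⧸ N)) := by
        rw [le_centralizer_iff]
        rintro _ ⟨a, ha, rfl⟩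
        haveI := hPn.map _ (QuotientGroup.mk'_surjective N)
        refine centralizes_of_powResidual (hquot N hNne) (P.2.map _)
          (map_powResidual_le p _ (mem_map_of_mem _ ha.1)) ?_
        refine Nat.Coprime.coprime_dvd_left ((orderOf_map_dvd _ a).trans ?_) hHcop
        exact Subgroup.orderOf_dvd_natCard H ha.2
      rw [inf_eq_left.2 hsub] at hm
      intro a ha
      have h1 : QuotientGroup.mk' N a ∈ C.map (QuotientGroup.mk' N) := hm ▸ mem_map_of_mem _ ha
      have h2 : a ∈ (C.map (QuotientGroup.mk' N)).comap (QuotientGroup.mk' N) := h1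
      rwa [comap_map_eq, QuotientGroup.ker_mk'] at h2
    have hCn : C.Normal := by
      rw [← normalizer_eq_top_iff, eq_top_iff, ← hH.sup_eq_top, sup_le_iff]
      refine ⟨hPC.trans (sup_le le_normalizer fun n hn => ?_), fun x hx => ?_⟩
      · rw [mem_normalizer_iff]
        intro a
        refine ⟨fun ha => ?_, fun ha => ?_⟩
        · rwa [← mem_centralizer_iff.1 (hNZ hn) a ha.1, mul_inv_cancel_right]
        · have haP : a ∈ (P : Subgroup G) := by
            have h1 := mul_mem (mul_mem (inv_mem (hNP hn)) ha.1) (hNP hn)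
            rwa [show n⁻¹ * (n * a * n⁻¹) * n = a by group] at h1
          rwa [← mem_centralizer_iff.1 (hNZ hn) a haP, mul_inv_cancel_right] at ha
      · have hx1 : x ∈ normalizer ((P : Subgroup G) : Set G) := by
          rw [normalizer_eq_top]; exact mem_top x
        have hx2 := hHK hx
        rw [mem_normalizer_iff]
        intro a
        simp only [hC, mem_inf, mem_centralizer_iff]
        refine and_congr (mem_normalizer_iff.1 hx1 a) ⟨fun ha k hk => ?_, fun ha k hk => ?_⟩
        · have h1 := ha _ ((mem_normalizer_iff''.1 hx2 k).1 hk)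
          calc k * (x * a * x⁻¹) = x * (x⁻¹ * k * x * a) * x⁻¹ := by group
            _ = x * (a * (x⁻¹ * k * x)) * x⁻¹ := by rw [h1]
            _ = x * a * x⁻¹ * k := by group
        · have h1 := ha _ ((mem_normalizer_iff.1 hx2 k).1 hk)
          calc k * a = x⁻¹ * (x * k * x⁻¹ * (x * a * x⁻¹)) * x := by group
            _ = x⁻¹ * (x * a * x⁻¹ * (x * k * x⁻¹)) * x := by rw [h1]
            _ = a * k := by group
    have hCN : C ⊓ N = ⊥ := by
      by_contra hne
      haveI := hCn
      have h1 := hNmin _ inferInstance inf_le_right hne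
      refine hnot (le_centralizer_iff.1 ?_)
      exact h1 ▸ inf_le_left.trans inf_le_right
    have hC0 : C = ⊥ := huniq C hCn hCN
    rw [hC0, bot_sup_eq] at hPC
    obtain ⟨M, hM, hHM⟩ := (eq_top_or_exists_le_coatom H).resolve_left fun hHtop => hPne (by
      have h1 := hH.disjoint
      rw [hHtop, disjoint_top] at h1
      exact h1)
    refine hM.1 (eq_top_iff.2 ?_)
    rw [← hH.sup_eq_top]
    exact sup_le (hPC.trans (hsupp M hM)) hHM
  -- so the `p'`-elements of the residual centralise `N`
  refine of_reach_ker (QuotientGroup.mk' N) ?_ (hquot N hNne)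
  rw [QuotientGroup.ker_mk']
  refine reach_of_coprime_centralizes (q := p) (P.2.to_le hNP) fun x hx hco => ?_
  obtain ⟨u, hu, v, hv, rfl⟩ : ∃ u ∈ (P : Subgroup G), ∃ v ∈ H, u * v = x := by
    have : x ∈ ((P : Subgroup G) : Set G) * (H : Set G) := by
      rw [hH.mul_eq]; exact Set.mem_univ x
    exact Set.mem_mul.1 this
  have hR := powResidual_normal (G := G) p
  haveI := hR
  have hvR : v ∈ powResidual p G := by
    have h1 : QuotientGroup.mk' (powResidual p G) v = (QuotientGroup.mk' (powResidual p G) u)⁻¹ := by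
      refine eq_inv_of_mul_eq_one_right ?_
      rw [← map_mul]
      exact (QuotientGroup.eq_one_iff _).2 hx
    refine (QuotientGroup.eq_one_iff _).1 (orderOf_eq_one_iff.1 ?_)
    show orderOf (QuotientGroup.mk' (powResidual p G) v) = 1
    have h2 : orderOf (QuotientGroup.mk' (powResidual p G) v) ∣ Nat.card (P : Subgroup G) := by
      rw [h1, orderOf_inv]
      exact (orderOf_map_dvd _ u).trans (Subgroup.orderOf_dvd_natCard _ hu)
    obtain ⟨e, he⟩ := IsPGroup.iff_card.1 P.2
    exact Nat.eq_one_of_dvd_coprimes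
      ((Nat.Coprime.coprime_dvd_left (Subgroup.orderOf_dvd_natCard H hv) hHcop).pow_right e)
      (orderOf_map_dvd _ v) (he ▸ h2)
  refine mul_mem (le_centralizer_iff.1 hNZ hu) (hKN ⟨hvR, hv⟩)

/-- Huppert: all maximal subgroups of prime index implies supersolvable. -/
theorem isSupersolvable_of_prime_index (h : ∀ M : Subgroup G, IsCoatom M → M.index.Prime) :
    Cfsg.IsSupersolvable G :=
  huppert_aux _ G rfl h

end Cfsg.Agent.Supersolvable
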