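import Cfsg.Agent.Lib.Supersolvable.Basic
import Mathlib.GroupTheory.SchurZassenhaus
import Mathlib.GroupTheory.GroupAction.Quotient
import Mathlib.GroupTheory.Sylow
import Mathlib.GroupTheory.IndexNormal

/-!
Converse of Lagrange's theorem for supersolvable groups; when all subgroups satisfy it, the Sylow
subgroup for the largest prime is normal.
-/

set_option autoImplicit false

namespace Cfsg.Agent.Supersolvable

open Subgroup

universe u

theorem card_comap_mk' {G : Type*} [Group G] [Finite G] (N : Subgroup G) [N.Normal]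
    (K : Subgroup (G ⧸ N)) :
    Nat.card (K.comap (QuotientGroup.mk' N)) = Nat.card K * Nat.card N := by
  have h1 := (K.comap (QuotientGroup.mk' N)).card_mul_index
  rw [index_comap_of_surjective _ (QuotientGroup.mk'_surjective N),
    card_eq_card_quotient_mul_card_subgroup N, ← K.card_mul_index] at h1
  apply Nat.eq_of_mul_eq_mul_right (Nat.pos_of_ne_zero K.index_ne_zero_of_finite)
  rw [h1]; ring

/-- Supersolvable finite groups satisfy the converse of Lagrange's theorem. -/
theorem hasSubgroupOfEveryOrder (G : Type u) [Group G] [Finite G] (hG : Cfsg.IsSupersolvable G) :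
    Cfsg.HasSubgroupOfEveryOrder G := by
  induction hn : Nat.card G using Nat.strong_induction_on generalizing G with
  | _ n ih =>
    subst hn
    intro d hd
    rcases subsingleton_or_nontrivial G with hs | hs
    · refine ⟨⊥, ?_⟩
      rw [Nat.card_unique, Nat.dvd_one] at hd
      rw [hd, card_bot]
    obtain ⟨N, hN, hp⟩ := exists_prime_normal hG
    have hq := ih _ (card_quotient_lt N hp.one_lt) (G ⧸ N) (quotient hG N) rfl
    rw [card_eq_card_quotient_mul_card_subgroup N] at hd
    by_cases hpd : Nat.card N ∣ d
    · obtain ⟨e, rfl⟩ := hpd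
      rw [mul_comm] at hd
      obtain ⟨K, hK⟩ := hq e (Nat.dvd_of_mul_dvd_mul_right hp.pos hd)
      exact ⟨K.comap (QuotientGroup.mk' N), by rw [card_comap_mk', hK, mul_comm]⟩
    · have hco : d.Coprime (Nat.card N) := ((hp.coprime_iff_not_dvd).mpr hpd).symm
      obtain ⟨K, hK⟩ := hq d (hco.dvd_of_dvd_mul_right hd)
      set L := K.comap (QuotientGroup.mk' N)
      have hle : N ≤ L := fun x hx => by
        rw [mem_comap, show (QuotientGroup.mk' N) x = 1 from (QuotientGroup.eq_one_iff x).mpr hx]
        exact one_mem K
      have hcard : Nat.card L = d * Nat.card N := by rw [card_comap_mk', hK]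
      have hNL : Nat.card (N.subgroupOf L) = Nat.card N :=
        Nat.card_congr (subgroupOfEquivOfLe hle).toEquiv
      have hidx : (N.subgroupOf L).index = d := by
        have := (N.subgroupOf L).card_mul_index
        rw [hNL, hcard, mul_comm d] at this
        exact Nat.eq_of_mul_eq_mul_left hp.pos this
      obtain ⟨C, hC⟩ := exists_right_complement'_of_coprime (N := N.subgroupOf L)
        (by rw [hNL, hidx]; exact hco.symm)
      refine ⟨C.map L.subtype, ?_⟩
      rw [card_map_of_injective L.subtype_injective, ← hC.symm.index_eq_card, hidx]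

theorem HasSubgroupOfEveryOrder.of_mulEquiv {G H : Type u} [Group G] [Group H] (e : G ≃* H)
    (h : Cfsg.HasSubgroupOfEveryOrder G) : Cfsg.HasSubgroupOfEveryOrder H := by
  intro d hd
  obtain ⟨K, hK⟩ := h d (by rwa [Nat.card_congr e.toEquiv])
  exact ⟨K.map e.toMonoidHom, by rw [card_map_of_injective e.injective, hK]⟩

/-- If every subgroup satisfies the converse of Lagrange's theorem, a Sylow subgroup for a prime
at least every prime divisor of the order is normal. -/
theorem sylow_normal_of_largest (G : Type u) [Group G] [Finite G]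
    (h : ∀ H : Subgroup G, Cfsg.HasSubgroupOfEveryOrder H) (p : ℕ) [Fact p.Prime]
    (hmax : ∀ q : ℕ, q.Prime → q ∣ Nat.card G → q ≤ p) (P : Sylow p G) :
    (P : Subgroup G).Normal := by
  induction hn : Nat.card G using Nat.strong_induction_on generalizing G with
  | _ n ih =>
    subst hn
    have hp : p.Prime := Fact.out
    by_cases hone : Nat.card G = 1
    · have : Subsingleton G := (Nat.card_eq_one_iff_unique.mp hone).1
      exact ⟨fun x hx g => by rwa [Subsingleton.elim (g * x * g⁻¹) x]⟩
    set q := (Nat.card G).minFac with hqdef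
    have hq : q.Prime := Nat.minFac_prime hone
    have hqd : q ∣ Nat.card G := Nat.minFac_dvd _
    rcases (hmax q hq hqd).eq_or_lt with hqp | hqp
    · have hall : ∀ r : ℕ, r.Prime → r ∣ Nat.card G → r = p := fun r hr hrd =>
        le_antisymm (hmax r hr hrd) (hqp ▸ Nat.minFac_le_of_dvd hr.two_le hrd)
      obtain ⟨k, hk⟩ : ∃ k, Nat.card G = p ^ k :=
        ⟨_, Nat.eq_prime_pow_of_unique_prime_dvd Nat.card_pos.ne' (fun {r} hr hrd => hall r hr hrd)⟩
      rw [← P.is_maximal' ((IsPGroup.of_card hk).to_subgroup ⊤) le_top]
      infer_instance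
    obtain ⟨c, hc⟩ := hqd
    obtain ⟨K, hK⟩ := HasSubgroupOfEveryOrder.of_mulEquiv Subgroup.topEquiv (h ⊤) c
      (hc ▸ Dvd.intro_left q rfl)
    have hidx : K.index = q := by
      have := K.card_mul_index
      rw [hK, hc, mul_comm q] at this
      exact Nat.eq_of_mul_eq_mul_left (hK ▸ Nat.card_pos) this
    have hKn : K.Normal := Subgroup.normal_of_index_eq_minFac_card hidx
    have hPK : (P : Subgroup G) ≤ K := by
      intro x hx
      rw [← QuotientGroup.eq_one_iff (N := K) x, ← orderOf_eq_one_iff]
      obtain ⟨k, hk⟩ := P.2 ⟨x, hx⟩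
      have h1 : orderOf (QuotientGroup.mk' K x) ∣ p ^ k :=
        (orderOf_map_dvd _ x).trans (orderOf_dvd_of_pow_eq_one (by simpa using congrArg Subtype.val hk))
      have h2 : orderOf (QuotientGroup.mk' K x) ∣ q := by
        rw [← hidx, index_eq_card]; exact orderOf_dvd_natCard _
      refine Nat.eq_one_of_dvd_coprimes ?_ h1 h2
      exact ((Nat.coprime_primes hp hq).mpr hqp.ne').pow_left k
    have hlt : Nat.card K < Nat.card G := by
      rw [hK, hc]; exact lt_mul_of_one_lt_left (hK ▸ Nat.card_pos) hq.one_lt
    have hsub : ∀ H : Subgroup K, Cfsg.HasSubgroupOfEveryOrder H := fun H =>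
      HasSubgroupOfEveryOrder.of_mulEquiv (equivMapOfInjective H K.subtype K.subtype_injective).symm
        (h _)
    have hPn : (P.subtype hPK : Subgroup K).Normal :=
      ih _ hlt K hsub (fun r hr hrd => hmax r hr (hrd.trans K.card_subgroup_dvd_card)) (P.subtype hPK) rfl
    have := Sylow.characteristic_of_normal (P.subtype hPK) hPn
    have h3 : (((P.subtype hPK : Sylow p K) : Subgroup K).map K.subtype).Normal :=
      ConjAct.normal_of_characteristic_of_normal
    rwa [Sylow.coe_subtype, map_subgroupOf_eq_of_le hPK] at h3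

end Cfsg.Agent.Supersolvable
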