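import Cfsg.Agent.Lib.Supersolvable.Basic
import Cfsg.Agent.Lib.Solvable.Basic
import Mathlib.FieldTheory.Finite.Basic
import Mathlib.Algebra.Module.ZMod
import Mathlib.GroupTheory.Commutator.Basic
import Mathlib.GroupTheory.PGroup

/-!
# Supersolvably embedded normal `q`-subgroups

`powResidual q G = G' ⟨g^(q-1)⟩`, the kernel of all homomorphisms to abelian groups of exponent `q-1`.

* `exists_pow_eigen`: an endomorphism `f` with `f^q = f` of an elementary abelian `q`-group has an
  eigenvector.
* `commute_of_mem_powResidual`: `q'`-elements of `powResidual q G` centralize normal cyclic `q`-groups.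
* `reach_of_powResidual`: a normal `q`-group `Q` is supersolvably embedded if `powResidual q G` acts on
  it as a `q`-group.
-/

set_option autoImplicit false
set_option linter.style.haveILetI false

namespace Cfsg.Agent.Supersolvable

open Subgroup

universe u

/-- An endomorphism `f` of a nontrivial finite abelian group of exponent `q` with `f^q = f` maps some
nontrivial element to one of its powers. -/
theorem exists_pow_eigen {q : ℕ} [Fact q.Prime] {A : Type*} [CommGroup A] [Finite A] [Nontrivial A]
    (f : A →* A) (hA : ∀ a : A, a ^ q = 1) (hf : ∀ a : A, f^[q] a = f a) :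
    ∃ a : A, a ≠ 1 ∧ ∃ k : ℕ, f a = a ^ k := by
  classical
  letI : Module (ZMod q) (Additive A) :=
    AddCommGroup.zmodModule (n := q) (G := Additive A) fun x => Additive.toMul.injective (hA x.toMul)
  set L : Module.End (ZMod q) (Additive A) := (MonoidHom.toAdditive f).toZModLinearMap q with hLdef
  have hL : (L ^ (q : ℕ) : Module.End (ZMod q) (Additive A)) = L := by
    refine LinearMap.ext fun x => ?_
    rw [Module.End.pow_apply]
    have : ∀ n : ℕ, L^[n] x = Additive.ofMul (f^[n] x.toMul) := by
      intro n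
      induction n with
      | zero => rfl
      | succ n ih => rw [Function.iterate_succ_apply', ih, Function.iterate_succ_apply']; rfl
    rw [this, hf]
    rfl
  have hprod : ∏ a : ZMod q, (Polynomial.X - Polynomial.C a) = Polynomial.X ^ q - Polynomial.X := by
    have hcard : Fintype.card (ZMod q) = q := ZMod.card q
    have hroots : (Polynomial.X ^ q - Polynomial.X : Polynomial (ZMod q)).roots =
        Finset.univ.val := by
      have := FiniteField.roots_X_pow_card_sub_X (ZMod q)
      rwa [hcard] at this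
    have hmon : (Polynomial.X ^ q - Polynomial.X : Polynomial (ZMod q)).Monic :=
      Polynomial.monic_X_pow_sub (by rw [Polynomial.degree_X]; exact_mod_cast (Fact.out : q.Prime).one_lt)
    have h := Polynomial.prod_multiset_X_sub_C_of_monic_of_roots_card_eq hmon (by
      rw [hroots, Finset.card_val, Finset.card_univ, hcard,
        FiniteField.X_pow_card_sub_X_natDegree_eq _ (Fact.out : q.Prime).one_lt])
    rw [hroots] at h
    exact h
  have h0 : Polynomial.aeval L (∏ a : ZMod q, (Polynomial.X - Polynomial.C a)) = 0 := by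
    rw [hprod, map_sub, map_pow, Polynomial.aeval_X, hL, sub_self]
  obtain ⟨a, ha⟩ : ∃ a : ZMod q, ¬ Function.Injective
      (Polynomial.aeval L (Polynomial.X - Polynomial.C a)) := by
    by_contra hno
    simp only [not_exists, not_not] at hno
    have key : ∀ s : Finset (ZMod q), Function.Injective
        (Polynomial.aeval L (∏ a ∈ s, (Polynomial.X - Polynomial.C a))) := by
      intro s
      induction s using Finset.induction_on with
      | empty =>
        simp only [Finset.prod_empty, map_one]
        exact Function.injective_id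
      | insert a s ha ih =>
        rw [Finset.prod_insert ha, map_mul]
        exact (hno a).comp ih
    obtain ⟨x, hx⟩ := exists_ne (0 : Additive A)
    exact hx (key Finset.univ (by rw [h0]; simp))
  rw [← LinearMap.ker_eq_bot] at ha
  obtain ⟨x, hx, hx0⟩ := Submodule.exists_mem_ne_zero_of_ne_bot ha
  refine ⟨x.toMul, fun h => hx0 (Additive.toMul.injective h), a.val, ?_⟩
  simp only [map_sub, Polynomial.aeval_X, Polynomial.aeval_C, LinearMap.mem_ker, LinearMap.sub_apply,
    Module.algebraMap_end_apply, sub_eq_zero] at hx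
  have h2 : a • x = a.val • x := by
    conv_lhs => rw [← ZMod.natCast_zmod_val a]
    exact Nat.cast_smul_eq_nsmul _ _ _
  rw [h2] at hx
  exact congrArg Additive.toMul hx

variable {G : Type u} [Group G]

/-- `G' ⟨g ^ (q - 1)⟩`. -/
def powResidual (q : ℕ) (G : Type u) [Group G] : Subgroup G :=
  _root_.commutator G ⊔ Subgroup.closure (Set.range fun g : G => g ^ (q - 1))

theorem powResidual_normal (q : ℕ) : (powResidual q G).Normal :=
  Subgroup.Normal.of_commutator_le G le_sup_left

theorem pow_mem_powResidual (q : ℕ) (g : G) : g ^ (q - 1) ∈ powResidual q G :=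
  mem_sup_right (subset_closure ⟨g, rfl⟩)

theorem powResidual_le_map {H : Type*} [Group H] (q : ℕ) {f : G →* H} (hf : Function.Surjective f) :
    powResidual q H ≤ (powResidual q G).map f := by
  refine sup_le ?_ ((closure_le _).mpr ?_)
  · rw [_root_.commutator_def, ← Subgroup.map_top_of_surjective f hf, ← map_commutator,
      ← _root_.commutator_def]
    exact map_mono le_sup_left
  · rintro _ ⟨y, rfl⟩
    obtain ⟨x, rfl⟩ := hf y
    exact ⟨x ^ (q - 1), pow_mem_powResidual q x, map_pow f x _⟩

variable [Finite G] {q : ℕ} [Fact q.Prime]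

/-- `q'`-elements of `powResidual q G` centralize normal cyclic `q`-subgroups. -/
theorem commute_of_mem_powResidual {y x : G} {i : ℕ} (hy : orderOf y = q ^ i)
    (hn : (zpowers y).Normal) (hx : x ∈ powResidual q G) (hco : (orderOf x).Coprime q) :
    Commute x y := by
  rcases Nat.eq_zero_or_pos i with rfl | hi
  · rw [pow_zero, orderOf_eq_one_iff] at hy
    rw [hy]
    exact Commute.one_right x
  haveI := hn
  let φ : G →* MulAut (zpowers y) := MulAut.conjNormal
  have hcomm : ∀ a b : MulAut (zpowers y), a * b = b * a := fun a b =>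
    (IsCyclic.mulAutMulEquiv (zpowers y)).injective (by rw [map_mul, map_mul, mul_comm])
  have hle : powResidual q G ≤ (({
      carrier := {a | a ^ q ^ (i - 1) = 1}
      one_mem' := one_pow _
      mul_mem' := fun {a b} (ha : a ^ _ = 1) (hb : b ^ _ = 1) => by
        show (a * b) ^ _ = 1
        rw [Commute.mul_pow (hcomm a b), ha, hb, one_mul]
      inv_mem' := fun {a} (ha : a ^ _ = 1) => by
        show a⁻¹ ^ _ = 1
        rw [inv_pow, ha, inv_one] } : Subgroup (MulAut (zpowers y)))).comap φ := by
    refine sup_le ?_ ((closure_le _).mpr ?_)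
    · rw [_root_.commutator_def, commutator_le]
      intro a _ b _
      show φ _ ^ _ = 1
      rw [map_commutatorElement, commutatorElement_eq_one_iff_mul_comm.mpr (hcomm _ _), one_pow]
    · rintro _ ⟨g, rfl⟩
      show φ (g ^ (q - 1)) ^ q ^ (i - 1) = 1
      rw [map_pow, ← pow_mul, ← orderOf_dvd_iff_pow_eq_one, mul_comm]
      refine (orderOf_dvd_natCard (φ g)).trans (dvd_of_eq ?_)
      rw [IsCyclic.card_mulAut, Nat.card_zpowers, hy, Nat.totient_prime_pow Fact.out hi]
  have h1 : orderOf (φ x) = 1 :=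
    Nat.eq_one_of_dvd_coprimes (hco.pow_right (i - 1)) (orderOf_map_dvd φ x)
      (orderOf_dvd_of_pow_eq_one (hle hx))
  rw [orderOf_eq_one_iff] at h1
  have h2 : x * y * x⁻¹ = y :=
    congrArg Subtype.val (DFunLike.congr_fun h1 (⟨y, mem_zpowers y⟩ : zpowers y))
  exact mul_inv_eq_iff_eq_mul.mp h2

/-- A minimal normal subgroup inside a normal `q`-subgroup on which `powResidual q G` acts as a
`q`-group is cyclic. -/
private theorem minimal_isCyclic {Q N : Subgroup G} [Q.Normal] [N.Normal] (hQ : IsPGroup q Q)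
    (h : ∀ s ∈ powResidual q G, ∃ j : ℕ, s ^ q ^ j ∈ centralizer (Q : Set G))
    (hNQ : N ≤ Q) (hN : N ≠ ⊥)
    (hmin : ∀ M : Subgroup G, M.Normal → M ≤ N → M ≠ ⊥ → M = N) : IsCyclic N := by
  classical
  haveI := powResidual_normal (G := G) q
  set S := powResidual q G
  -- `N` is central in `Q`
  have hNc : N ≤ centralizer (Q : Set G) := by
    have hne : N.subgroupOf Q ⊓ center Q ≠ ⊥ := by
      haveI := hQ.isNilpotent
      refine Solvable.inf_center_ne_bot fun h0 => hN ?_
      rwa [subgroupOf_eq_bot, disjoint_iff, inf_eq_left.mpr hNQ] at h0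
    have h1 : N ⊓ centralizer (Q : Set G) ≠ ⊥ := by
      intro h0
      refine hne (eq_bot_iff.mpr ?_)
      rintro z ⟨hz, hzc⟩
      have hmem : (z : G) ∈ N ⊓ centralizer (Q : Set G) := ⟨hz, mem_centralizer_iff.mpr fun y hy =>
        congrArg Subtype.val (mem_center_iff.mp hzc ⟨y, hy⟩)⟩
      rw [h0, mem_bot] at hmem
      exact Subtype.ext hmem
    exact inf_eq_left.mp (hmin _ inferInstance inf_le_left h1)
  have hab : ∀ a ∈ N, ∀ b ∈ N, a * b = b * a := fun a ha b hb =>
    mem_centralizer_iff.mp (hNc hb) a (hNQ ha)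
  have hNnt : Nontrivial N := (nontrivial_iff_ne_bot N).mpr hN
  have hNp : IsPGroup q N := hQ.to_le hNQ
  obtain ⟨m, hm⟩ := hNp.exists_card_eq
  have hm0 : m ≠ 0 := fun h0 => by
    rw [h0, pow_zero] at hm
    exact (Finite.one_lt_card (α := N)).ne' hm
  -- `N` has exponent `q`
  have hexp : ∀ n ∈ N, n ^ q = 1 := by
    let M : Subgroup G :=
      { carrier := {n | n ∈ N ∧ n ^ q = 1}
        one_mem' := ⟨one_mem _, one_pow _⟩
        mul_mem' := fun {a b} ha hb => ⟨mul_mem ha.1 hb.1, by
          rw [Commute.mul_pow (hab a ha.1 b hb.1), ha.2, hb.2, one_mul]⟩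
        inv_mem' := fun {a} ha => ⟨inv_mem ha.1, by rw [inv_pow, ha.2, inv_one]⟩ }
    have hMn : M.Normal := ⟨fun n hn g => ⟨Normal.conj_mem inferInstance n hn.1 g, by
      rw [conj_pow, hn.2, mul_one, mul_inv_cancel]⟩⟩
    obtain ⟨c, hc⟩ := exists_prime_orderOf_dvd_card' (G := N) q (hm ▸ dvd_pow_self q hm0)
    have hcM : (c : G) ∈ M := ⟨c.2, by rw [← hc, ← Subgroup.orderOf_coe, pow_orderOf_eq_one]⟩
    have hMN := hmin M hMn (fun n hn => hn.1) fun h0 => by
      rw [h0, mem_bot, ← Subgroup.coe_one N, Subtype.coe_inj] at hcM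
      rw [hcM, orderOf_one] at hc
      exact (Fact.out : q.Prime).one_lt.ne hc
    intro n hn
    rw [← hMN] at hn
    exact hn.2
  -- `S` centralizes `N`
  have hSC : N ≤ centralizer (S : Set G) := by
    let ψ : S →* MulAut N := MulAut.conjNormal.comp S.subtype
    have hψ : IsPGroup q ψ.range := by
      rintro ⟨_, s, rfl⟩
      obtain ⟨j, hj⟩ := h s s.2
      refine ⟨j, Subtype.ext ?_⟩
      show ψ s ^ q ^ j = 1
      rw [← map_pow]
      refine DFunLike.ext _ _ fun n => Subtype.ext ?_
      show (s : G) ^ q ^ j * (n : G) * ((s : G) ^ q ^ j)⁻¹ = (n : G)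
      rw [mul_inv_eq_iff_eq_mul]
      exact (mem_centralizer_iff.mp hj n (hNQ n.2)).symm
    have h1 : (1 : N) ∈ MulAction.fixedPoints ψ.range N := fun a => map_one (a : MulAut N)
    obtain ⟨n, hn, hn1⟩ := hψ.exists_fixed_point_of_prime_dvd_card_of_fixed_point N
      (hm ▸ dvd_pow_self q hm0) h1
    have hne : N ⊓ centralizer (S : Set G) ≠ ⊥ := by
      intro h0
      refine hn1.symm (Subtype.ext ?_)
      have hmem : (n : G) ∈ N ⊓ centralizer (S : Set G) := ⟨n.2, mem_centralizer_iff.mpr fun s hs => by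
        have h2 : s * (n : G) * s⁻¹ = n := congrArg Subtype.val (hn ⟨ψ ⟨s, hs⟩, ⟨s, hs⟩, rfl⟩)
        exact mul_inv_eq_iff_eq_mul.mp h2⟩
      rwa [h0, mem_bot] at hmem
    exact inf_eq_left.mp (hmin _ inferInstance inf_le_left hne)
  have hfix : ∀ s ∈ S, ∀ n ∈ N, s * n * s⁻¹ = n := fun s hs n hn => by
    rw [mul_inv_eq_iff_eq_mul]
    exact mem_centralizer_iff.mp (hSC hn) s hs
  -- every element maps every element of `N` to one of its powers
  have hpow : ∀ g : G, ∀ n ∈ N, g * n * g⁻¹ ∈ zpowers n := by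
    intro g
    haveI : IsMulCommutative N := ⟨⟨fun a b => Subtype.ext (hab a a.2 b b.2)⟩⟩
    open scoped IsMulCommutative in
    obtain ⟨v, hv, k, hk⟩ := exists_pow_eigen (q := q) ((MulAut.conjNormal g : MulAut N)).toMonoidHom
      (fun a => Subtype.ext (hexp a a.2)) (fun a => by
        have hit : ∀ (n : ℕ) (a : N),
            (((MulAut.conjNormal g : MulAut N).toMonoidHom)^[n] a : G) = g ^ n * a * (g ^ n)⁻¹ := by
          intro n
          induction n with
          | zero => intro a; simp
          | succ n ih =>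
            intro a
            rw [Function.iterate_succ_apply']
            show g * _ * g⁻¹ = _
            rw [ih, pow_succ']
            group
        apply Subtype.ext
        rw [hit]
        show g ^ q * (a : G) * (g ^ q)⁻¹ = g * a * g⁻¹
        have e : g ^ q = g * g ^ (q - 1) := by
          rw [← pow_succ', Nat.sub_add_cancel (Fact.out : q.Prime).pos]
        calc g ^ q * (a : G) * (g ^ q)⁻¹ = g * (g ^ (q - 1) * a * (g ^ (q - 1))⁻¹) * g⁻¹ := by
              rw [e]; group
          _ = g * a * g⁻¹ := by rw [hfix _ (pow_mem_powResidual q g) a a.2])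
    let E : Subgroup G :=
      { carrier := {n | n ∈ N ∧ g * n * g⁻¹ = n ^ k}
        one_mem' := ⟨one_mem _, by simp⟩
        mul_mem' := fun {a b} ha hb => ⟨mul_mem ha.1 hb.1, by
          rw [Commute.mul_pow (hab a ha.1 b hb.1), ← ha.2, ← hb.2]; group⟩
        inv_mem' := fun {a} ha => ⟨inv_mem ha.1, by rw [inv_pow, ← ha.2]; group⟩ }
    have hEn : E.Normal := ⟨fun n hn y => ⟨Normal.conj_mem inferInstance n hn.1 y, by
      set c := g⁻¹ * y⁻¹ * g * y with hc
      have hcS : c ∈ S := mem_sup_left (by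
        have := commutator_mem_commutator (mem_top (g⁻¹)) (mem_top (y⁻¹))
        rw [_root_.commutator_def]
        convert this using 1
        simp [hc, commutatorElement_def])
      calc g * (y * n * y⁻¹) * g⁻¹ = y * g * (c * n * c⁻¹) * g⁻¹ * y⁻¹ := by rw [hc]; group
        _ = y * (g * n * g⁻¹) * y⁻¹ := by rw [hfix c hcS n hn.1]; group
        _ = y * n ^ k * y⁻¹ := by rw [hn.2]
        _ = (y * n * y⁻¹) ^ k := conj_pow.symm⟩⟩
    have hvE : (v : G) ∈ E := ⟨v.2, by simpa using congrArg Subtype.val hk⟩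
    have hEN := hmin E hEn (fun n hn => hn.1) fun h0 => by
      rw [h0, mem_bot] at hvE
      exact hv (Subtype.ext hvE)
    intro n hn
    rw [← hEN] at hn
    rw [hn.2]
    exact pow_mem (mem_zpowers n) k
  obtain ⟨⟨n, hn⟩, hn1⟩ := exists_ne (1 : N)
  have hzn : (zpowers n).Normal := ⟨fun a ha g => by
    obtain ⟨i, rfl⟩ := mem_zpowers_iff.mp ha
    rw [← _root_.conj_zpow]
    exact zpow_mem (hpow g n hn) i⟩
  have hzN := hmin _ hzn (zpowers_le.mpr hn) fun h0 => hn1 (Subtype.ext (zpowers_eq_bot.mp h0))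
  rw [← hzN]
  infer_instance

private theorem reach_aux : ∀ (k : ℕ) (G : Type u) [Group G] [Finite G], Nat.card G = k →
    ∀ Q : Subgroup G, Q.Normal → IsPGroup q Q →
    (∀ s ∈ powResidual q G, ∃ j : ℕ, s ^ q ^ j ∈ centralizer (Q : Set G)) → Reach Q := by
  intro k
  induction k using Nat.strong_induction_on with
  | _ k IH =>
  intro G _ _ hk Q hQn hQ h
  subst hk
  by_cases hQ1 : Q = ⊥
  · rw [hQ1]; exact Reach.bot
  obtain ⟨N, ⟨hNn, hNne, hNQ⟩, hmin⟩ :=
    (Set.toFinite {N : Subgroup G | N.Normal ∧ N ≠ ⊥ ∧ N ≤ Q}).exists_minimal ⟨Q, hQn, hQ1, le_rfl⟩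
  haveI := hNn
  haveI := hQn
  haveI : IsCyclic N := minimal_isCyclic hQ h hNQ hNne fun M hM hMN hM1 =>
    le_antisymm hMN (hmin ⟨hM, hM1, hMN.trans hNQ⟩ hMN)
  set π := QuotientGroup.mk' N
  have hπ : Function.Surjective π := QuotientGroup.mk'_surjective N
  have hlt : Nat.card (G ⧸ N) < Nat.card G := card_quotient_lt N
    (by haveI := (nontrivial_iff_ne_bot N).mpr hNne; exact Finite.one_lt_card)
  have hR : Reach (Q.map π) := IH _ hlt (G ⧸ N) rfl _ (hQn.map π hπ) (hQ.map π) fun s hs => by
    obtain ⟨t, ht, rfl⟩ := powResidual_le_map q hπ hs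
    obtain ⟨j, hj⟩ := h t ht
    refine ⟨j, mem_centralizer_iff.mpr ?_⟩
    rintro _ ⟨y, hy, rfl⟩
    rw [← map_pow, ← map_mul, ← map_mul, mem_centralizer_iff.mp hj y hy]
  have hker : Reach π.ker := by rw [QuotientGroup.ker_mk']; exact reach_of_isCyclic N
  have h2 := Reach.comap π hker hR
  rwa [comap_map_eq, QuotientGroup.ker_mk', sup_eq_left.mpr hNQ] at h2

/-- A normal `q`-subgroup on which `powResidual q G` acts as a `q`-group is supersolvably embedded. -/
theorem reach_of_powResidual {Q : Subgroup G} [hQn : Q.Normal] (hQ : IsPGroup q Q)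
    (h : ∀ s ∈ powResidual q G, ∃ j : ℕ, s ^ q ^ j ∈ centralizer (Q : Set G)) : Reach Q :=
  reach_aux _ G rfl Q hQn hQ h

/-- It suffices that the `q'`-elements of `powResidual q G` centralize `Q`. -/
theorem reach_of_coprime_centralizes {Q : Subgroup G} [Q.Normal] (hQ : IsPGroup q Q)
    (h : ∀ x ∈ powResidual q G, (orderOf x).Coprime q → x ∈ centralizer (Q : Set G)) : Reach Q := by
  refine reach_of_powResidual hQ fun s hs => ⟨(orderOf s).factorization q, ?_⟩
  refine h _ (pow_mem hs _) ?_
  rw [orderOf_pow_of_dvd (pow_ne_zero _ (Fact.out : q.Prime).ne_zero) (Nat.ordProj_dvd _ _)]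
  exact (Nat.coprime_ordCompl Fact.out (orderOf_pos s).ne').symm

end Cfsg.Agent.Supersolvable
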