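import Cfsg.Agent.Lib.Supersolvable.Basic
import Cfsg.Agent.Lib.Solvable.Basic

/-!
Finite nilpotent groups, in particular abelian groups and groups of prime-power order, are supersolvable.
-/

set_option autoImplicit false

namespace Cfsg.Agent.Supersolvable

open Subgroup

universe u

theorem of_isNilpotent (G : Type u) [Group G] [Finite G] [hG : Group.IsNilpotent G] :
    Cfsg.IsSupersolvable G := by
  induction hn : Nat.card G using Nat.strong_induction_on generalizing G with
  | _ n ih =>
    subst hn
    rcases subsingleton_or_nontrivial G with hs | hs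
    · exact of_subsingleton
    have : Nontrivial (center G) := (nontrivial_iff_ne_bot _).mpr
      (by simpa using Solvable.inf_center_ne_bot (N := (⊤ : Subgroup G)) top_ne_bot)
    obtain ⟨p, hp, hpd⟩ := Nat.exists_prime_and_dvd (Finite.one_lt_card (α := center G)).ne'
    have := Fact.mk hp
    obtain ⟨x, hx⟩ := exists_prime_orderOf_dvd_card' (G := center G) p hpd
    have hN : (zpowers (x : G)).Normal := by
      constructor
      intro y hy g
      have hy' : y ∈ center G := zpowers_le.mpr x.2 hy
      rwa [mem_center_iff.mp hy' g, mul_inv_cancel_right]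
    have hc : (Nat.card (zpowers (x : G))).Prime := by
      rwa [Nat.card_zpowers, orderOf_coe, hx]
    exact of_prime_normal _ hc
      (ih _ (card_quotient_lt _ hc.one_lt) _ (hG := inferInstance) rfl)

theorem of_isPGroup {G : Type u} [Group G] [Finite G] {p : ℕ} [Fact p.Prime] (h : IsPGroup p G) :
    Cfsg.IsSupersolvable G :=
  @of_isNilpotent G _ _ h.isNilpotent

end Cfsg.Agent.Supersolvable
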