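import Cfsg.Agent.Lib.Supersolvable.Embedded
import Cfsg.Agent.Lib.Transfer.StronglyClosedOrder
import Cfsg.Agent.Lib.Coprime.Commutator

/-!
# Supersolvability from strongly closed subgroups of one order

* `reach_of_normal_order`: a non-cyclic normal `q`-group all whose subgroups of order `q ^ d` (and 4 if
  `q ^ d = 2`) are normal in `G`, `1 ≤ d`, `q ^ d < |Q|`, is supersolvably embedded.
* `SylowClosedOrder E`: each non-cyclic Sylow subgroup of `E` has such a `d` with strongly closed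
  subgroups.
* `isSupersolvable_of_sylowClosedOrder`.
-/

set_option autoImplicit false
set_option linter.style.haveILetI false

namespace Cfsg.Agent.Supersolvable

open Subgroup

universe u

variable {G : Type u} [Group G] [Finite G] {q : ℕ} [Fact q.Prime]

omit [Finite G] [Fact q.Prime] in
theorem map_powResidual_le {H : Type*} [Group H] (q : ℕ) (f : G →* H) :
    (powResidual q G).map f ≤ powResidual q H := by
  rw [powResidual, Subgroup.map_sup, MonoidHom.map_closure]
  refine sup_le_sup ?_ ((closure_le _).mpr ?_)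
  · rw [_root_.commutator_def, _root_.commutator_def, map_commutator]
    exact commutator_mono le_top le_top
  · rintro _ ⟨_, ⟨g, rfl⟩, rfl⟩
    exact subset_closure ⟨f g, (map_pow f g _).symm⟩

/-- A `q'`-element of `powResidual q G` centralizes the elements of order `q` or 4 of `Q`. -/
private theorem commute_small {Q : Subgroup G} (hQ : IsPGroup q Q) {d : ℕ} (hd : 1 ≤ d)
    (hdQ : q ^ d < Nat.card Q)
    (hF : ∀ F : Subgroup G, F ≤ Q → (Nat.card F = q ^ d ∨ (q ^ d = 2 ∧ Nat.card F = 4)) → F.Normal)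
    {x : G} (hx : x ∈ powResidual q G) (hco : (orderOf x).Coprime q) {y : G} (hy : y ∈ Q) {i : ℕ}
    (hi : i = 1 ∨ (q = 2 ∧ i = 2)) (hoy : orderOf y = q ^ i) : Commute x y := by
  by_cases hid : i ≤ d
  swap
  · rcases hi with rfl | ⟨h2, rfl⟩
    · omega
    · obtain rfl : d = 1 := by omega
      refine commute_of_mem_powResidual hoy (hF _ (zpowers_le.mpr hy) (Or.inr ⟨?_, ?_⟩)) hx hco
      · rw [h2]; rfl
      · rw [Nat.card_zpowers, hoy, h2]; rfl
  obtain ⟨n, hn⟩ := hQ.exists_card_eq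
  have hdn : d < n := (Nat.pow_lt_pow_iff_right (Fact.out : q.Prime).one_lt).mp (hn ▸ hdQ)
  obtain ⟨M₀, hM₀, hyM₀⟩ := Sylow.exists_subgroup_card_pow_prime_le q
    (hn ▸ pow_dvd_pow q hdn : q ^ (d + 1) ∣ Nat.card Q) (zpowers (⟨y, hy⟩ : Q))
    (by rw [Nat.card_zpowers, Subgroup.orderOf_mk, hoy]) (by omega : i ≤ d + 1)
  set M := M₀.map Q.subtype with hMdef
  have hMQ : M ≤ Q := map_subtype_le _
  have hMc : Nat.card M = q ^ (d + 1) := by
    rw [hMdef, card_map_of_injective Q.subtype_injective, hM₀]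
  have hyM : y ∈ M := ⟨⟨y, hy⟩, hyM₀ (mem_zpowers _), rfl⟩
  by_cases hMcy : IsCyclic M
  · obtain ⟨⟨v, hv⟩, hgen⟩ := IsCyclic.exists_generator (α := M)
    have hvo : orderOf v = q ^ (d + 1) := by
      rw [← hMc, ← orderOf_eq_card_of_forall_mem_zpowers hgen, Subgroup.orderOf_mk]
    have hvq : orderOf (v ^ q) = q ^ d := by
      rw [orderOf_pow_of_dvd (Fact.out : q.Prime).ne_zero (hvo ▸ dvd_pow_self q (by omega)), hvo,
        pow_succ, Nat.mul_div_cancel _ (Fact.out : q.Prime).pos]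
    have hc := commute_of_mem_powResidual hvq
      (hF _ (zpowers_le.mpr (pow_mem (hMQ hv) q)) (Or.inl (by rw [Nat.card_zpowers, hvq]))) hx hco
    obtain ⟨t, ht⟩ := mem_zpowers_iff.mp (hgen ⟨y, hyM⟩)
    have ht' : v ^ t = y := congrArg Subtype.val ht
    have hyq : y ^ q ^ d = 1 := orderOf_dvd_iff_pow_eq_one.mp (hoy ▸ pow_dvd_pow q hid)
    rw [← ht', ← zpow_natCast, ← zpow_mul, ← orderOf_dvd_iff_zpow_eq_one, hvo] at hyq
    have hqt : (q : ℤ) ∣ t := by
      push_cast at hyq
      rw [pow_succ', mul_comm t] at hyq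
      have hne : ((q : ℤ) ^ d) ≠ 0 := pow_ne_zero _ (by exact_mod_cast (Fact.out : q.Prime).ne_zero)
      rw [mul_comm (q : ℤ)] at hyq
      exact (mul_dvd_mul_iff_left hne).mp hyq
    obtain ⟨s, rfl⟩ := hqt
    rw [← ht', zpow_mul, zpow_natCast]
    exact hc.zpow_right s
  -- the maximal subgroups of `M` are normal in `G`
  have hMp : IsPGroup q M := hQ.to_le hMQ
  have hcoat : ∀ C : Subgroup M, IsCoatom C → (C.map M.subtype).Normal := by
    intro C hC
    refine hF _ ((map_subtype_le C).trans hMQ) (Or.inl ?_)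
    rw [card_map_of_injective M.subtype_injective]
    have h1 := card_mul_index C
    rw [PGroup.index_of_isCoatom hMp hC, hMc, pow_succ] at h1
    exact Nat.eq_of_mul_eq_mul_right (Fact.out : q.Prime).pos h1
  have hex : ∀ a : M, ∃ C : Subgroup M, IsCoatom C ∧ a ∈ C := by
    intro a
    rcases eq_top_or_exists_le_coatom (zpowers a) with h | ⟨C, hC, hle⟩
    · exact absurd ((isCyclic_iff_exists_zpowers_eq_top (α := M)).mpr ⟨a, h⟩) hMcy
    · exact ⟨C, hC, hle (mem_zpowers a)⟩
  haveI hMn : M.Normal := ⟨fun a ha g => by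
    obtain ⟨C, hC, haC⟩ := hex ⟨a, ha⟩
    exact map_subtype_le C ((hcoat C hC).conj_mem a ⟨_, haC, rfl⟩ g)⟩
  set F := (frattini M).map M.subtype with hFdef
  haveI hFn : F.Normal := inferInstance
  refine (mem_centralizer_iff.mp ((Coprime.le_centralizer_of_frattini (A := zpowers x) (K := M)
    (fun z _ => normalizer_eq_top_iff.mpr hMn ▸ mem_top z) ?_ ?_) (mem_zpowers x)) y hyM).symm
  · obtain ⟨k, hk⟩ := IsPGroup.iff_card.mp (hMp.to_subgroup (frattini M))
    rw [hk, Nat.card_zpowers]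
    exact hco.pow_right k
  intro z hz a ha
  set π := QuotientGroup.mk' F
  have hzn : (zpowers (π a)).Normal := by
    refine ⟨fun b hb g => ?_⟩
    obtain ⟨i, rfl⟩ := mem_zpowers_iff.mp hb
    obtain ⟨g, rfl⟩ := QuotientGroup.mk'_surjective F g
    rw [← _root_.conj_zpow]
    refine zpow_mem ?_ i
    have hga : g * a * g⁻¹ ∈ M := hMn.conj_mem a ha g
    have h1 : (⟨_, hga⟩ : M) ∈ zpowers (⟨a, ha⟩ : M) ⊔ frattini M := by
      refine Transfer.mem_sup_frattini_of_forall_coatom hMp fun C hC haC => ?_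
      obtain ⟨c, hc, hce⟩ := (hcoat C hC).conj_mem a ⟨_, haC, rfl⟩ g
      have e : (⟨_, hga⟩ : M) = c := Subtype.ext hce.symm
      rw [e]; exact hc
    have h2 : g * a * g⁻¹ ∈ (zpowers (⟨a, ha⟩ : M) ⊔ frattini M).map M.subtype := ⟨_, h1, rfl⟩
    rw [Subgroup.map_sup, MonoidHom.map_zpowers] at h2
    have h3 : π (g * a * g⁻¹) ∈ (zpowers a ⊔ F).map π := ⟨_, h2, rfl⟩
    rw [Subgroup.map_sup, MonoidHom.map_zpowers,
      (Subgroup.map_eq_bot_iff F).mpr (QuotientGroup.ker_mk' F).ge, sup_bot_eq] at h3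
    rw [map_mul, map_mul, map_inv] at h3
    exact h3
  have haq : π a ^ q = 1 := by
    rw [← map_pow]
    exact (QuotientGroup.eq_one_iff _).mpr ⟨_, PGroup.pow_mem_frattini hMp ⟨a, ha⟩, rfl⟩
  obtain ⟨i, -, hai⟩ := (Nat.dvd_prime_pow Fact.out).mp
    ((orderOf_dvd_of_pow_eq_one haq).trans (dvd_of_eq (pow_one q).symm))
  have hcomm : Commute (π z) (π a) := by
    obtain ⟨t, rfl⟩ := mem_zpowers_iff.mp hz
    rw [map_zpow]
    exact (commute_of_mem_powResidual hai hzn (map_powResidual_le q π ⟨x, hx, rfl⟩)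
      (hco.coprime_dvd_left (orderOf_map_dvd π x))).zpow_left t
  have h4 : π (z * a * z⁻¹ * a⁻¹) = 1 := by
    simp only [map_mul, map_inv, hcomm.eq, mul_inv_cancel_right, mul_inv_cancel]
  exact (QuotientGroup.eq_one_iff _).mp h4

/-- A normal `q`-group `Q` with all subgroups of order `q ^ d` (and 4 if `q ^ d = 2`) normal in `G`. -/
theorem reach_of_normal_order {Q : Subgroup G} [hQn : Q.Normal] (hQ : IsPGroup q Q) {d : ℕ}
    (hd : 1 ≤ d) (hdQ : q ^ d < Nat.card Q)
    (hF : ∀ F : Subgroup G, F ≤ Q → (Nat.card F = q ^ d ∨ (q ^ d = 2 ∧ Nat.card F = 4)) → F.Normal) :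
    Reach Q := by
  refine reach_of_coprime_centralizes hQ fun x hx hco => ?_
  refine Transfer.mem_centralizer_of_fix_small_real Q hQ (normalizer_eq_top_iff.mpr hQn ▸ mem_top x)
    hco fun y hy hsm => ?_
  by_cases hy1 : y = 1
  · rw [hy1]; exact Commute.one_right x
  rcases hsm with h1 | ⟨h2, h4, -⟩
  · exact commute_small hQ hd hdQ hF hx hco hy (Or.inl rfl) (by rw [orderOf_eq_prime h1 hy1, pow_one])
  · by_cases h5 : y ^ 2 = 1
    · subst h2
      exact commute_small hQ hd hdQ hF hx hco hy (Or.inl rfl)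
        (by rw [orderOf_eq_prime h5 hy1, pow_one])
    · subst h2
      exact commute_small hQ hd hdQ hF hx hco hy (Or.inr ⟨rfl, rfl⟩)
        (orderOf_eq_prime_pow (p := 2) (n := 1) h5 h4)

/-- Each non-cyclic Sylow subgroup `P` of `E` has a `d` with all subgroups of order `p ^ d` (and 4 if
`p ^ d = 2`) strongly closed in `P` with respect to `G`. -/
def SylowClosedOrder {G : Type*} [Group G] (E : Subgroup G) : Prop :=
  ∀ (p : ℕ), p.Prime → ∀ P : Subgroup G, P ≤ E → IsPGroup p P → ¬ p ∣ P.relIndex E → ¬ IsCyclic P →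
    ∃ d : ℕ, 1 ≤ d ∧ p ^ d < Nat.card P ∧ ∀ F : Subgroup G, F ≤ P →
      (Nat.card F = p ^ d ∨ (p ^ d = 2 ∧ Nat.card F = 4)) → Cfsg.IsStronglyClosed F P

omit [Fact q.Prime] in
/-- A normalized Sylow subgroup contains every normalizing `r`-subgroup. -/
theorem le_of_sylow_normalized {r : ℕ} [Fact r.Prime] {Q R E : Subgroup G} (hQE : Q ≤ E) (hRE : R ≤ E)
    (hQ : IsPGroup r Q) (hR : IsPGroup r R) (hn : R ≤ normalizer (Q : Set G))
    (hs : ¬ r ∣ Q.relIndex E) : R ≤ Q := by
  obtain ⟨k, hk⟩ := (hR.to_sup_of_normal_right' hQ hn).exists_card_eq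
  have h1 : Q.relIndex (R ⊔ Q) ∣ r ^ k := hk ▸ relIndex_dvd_card _ _
  have h2 : Q.relIndex (R ⊔ Q) ∣ Q.relIndex E := by
    rw [← relIndex_mul_relIndex Q (R ⊔ Q) E le_sup_right (sup_le hRE hQE)]
    exact dvd_mul_right _ _
  have h3 : Q.relIndex (R ⊔ Q) = 1 := Nat.eq_one_of_dvd_coprimes
    (((Fact.out : r.Prime).coprime_iff_not_dvd.mpr hs).symm.pow_right k) h2 h1
  exact le_sup_left.trans (relIndex_eq_one.mp h3)

omit [Fact q.Prime] in
/-- Some Sylow subgroup of `E` is nontrivial and normal in `E`. -/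
theorem exists_sylow_normalized (E : Subgroup G) (h : SylowClosedOrder E) (hE : E ≠ ⊥) :
    ∃ (r : ℕ) (Q : Subgroup G), r.Prime ∧ Q ≠ ⊥ ∧ Q ≤ E ∧ IsPGroup r Q ∧ ¬ r ∣ Q.relIndex E ∧
      E ≤ normalizer (Q : Set G) := by
  induction hn : Nat.card E using Nat.strong_induction_on generalizing E with
  | _ n IH =>
  subst hn
  have hE1 : Nat.card E ≠ 1 := fun h1 => hE (card_eq_one.mp h1)
  set p := (Nat.card E).minFac with hp
  haveI : Fact p.Prime := ⟨Nat.minFac_prime hE1⟩
  have hdiv : p ∣ Nat.card E := Nat.minFac_dvd _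
  obtain ⟨P⟩ : Nonempty (Sylow p E) := inferInstance
  set P₀ := (P : Subgroup E).map E.subtype with hP₀
  have hP₀E : P₀ ≤ E := map_subtype_le _
  have hP₀s : ¬ p ∣ P₀.relIndex E := by
    show ¬ p ∣ (P₀.subgroupOf E).index
    rw [hP₀, subgroupOf, comap_map_eq_self_of_injective E.subtype_injective]
    exact P.not_dvd_index
  have hnc : Cfsg.HasNormalPComplement p E := by
    by_cases hc : IsCyclic P₀
    · haveI := hc
      have hPc : IsCyclic (P : Subgroup E) :=
        isCyclic_of_surjective ((P : Subgroup E).equivMapOfInjective E.subtype E.subtype_injective).symm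
          (MulEquiv.surjective _)
      exact Transfer.hasNormalPComplement_of_normalizer_le_centralizer P
        (IsCyclic.normalizer_le_centralizer hp.symm hPc)
    · obtain ⟨d, hd, hdP, hF⟩ := h p Fact.out P₀ hP₀E (P.2.map _) hP₀s hc
      refine Transfer.hasNormalPComplement_of_stronglyClosed_order
        (fun r hr hrd => Nat.minFac_le_of_dvd hr.two_le hrd) P d hd
        (by rwa [hP₀, card_map_of_injective E.subtype_injective] at hdP) fun F hF' hcard => ?_
      rw [← card_map_of_injective E.subtype_injective] at hcard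
      refine ⟨hF', fun x hx g hg => ?_⟩
      obtain ⟨c, hc', hce⟩ := (hF _ (map_mono hF') hcard).2 _ ⟨x, hx, rfl⟩ (g : G) ⟨_, hg, rfl⟩
      have e : c = g * x * g⁻¹ := Subtype.ext hce
      exact e ▸ hc'
  set K := (Cfsg.pResidual p E).map E.subtype with hK
  have hKE : K ≤ E := map_subtype_le _
  by_cases hK1 : K = ⊥
  · -- `E` is a `p`-group
    have h0 : Cfsg.pResidual p E = ⊥ := (Subgroup.map_eq_bot_iff_of_injective _ E.subtype_injective).mp hK1
    have htop := Transfer.sylow_sup_pResidual_eq_top P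
    rw [h0, sup_bot_eq] at htop
    refine ⟨p, E, Fact.out, hE, le_rfl, ?_, ?_, le_normalizer⟩
    · have := P.2
      rw [htop] at this
      exact IsPGroup.of_equiv this topEquiv
    · rw [relIndex_self]; exact (Fact.out : p.Prime).not_dvd_one
  haveI hresn := Transfer.pResidual_normal (G := E) p
  obtain ⟨N, hNn, hNc⟩ := (Transfer.hasNormalPComplement_iff_exists P).mp hnc
  have hKp : (Cfsg.pResidual p E).index = Nat.card (P : Subgroup E) :=
    (Transfer.isComplement'_pResidual P (Transfer.hasNormalPComplement_iff.mp hnc)).symm.index_eq_card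
  have hKidx : K.relIndex E = Nat.card (P : Subgroup E) := by
    show (K.subgroupOf E).index = _
    rw [hK, subgroupOf, comap_map_eq_self_of_injective E.subtype_injective, hKp]
  have hKcard : Nat.card K < Nat.card E := by
    have h1 := card_mul_index (K.subgroupOf E)
    rw [Nat.card_congr (subgroupOfEquivOfLe hKE).toEquiv,
      show (K.subgroupOf E).index = K.relIndex E from rfl, hKidx] at h1
    have h2 : 1 < Nat.card (P : Subgroup E) := by
      have := P.dvd_card_of_dvd_card hdiv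
      exact lt_of_lt_of_le (Fact.out : p.Prime).one_lt (Nat.le_of_dvd Nat.card_pos this)
    rw [← h1]
    exact lt_mul_of_one_lt_right Nat.card_pos h2
  have hco : (Nat.card K).Coprime p := by
    have h1 := (Transfer.isComplement'_pResidual P (Transfer.hasNormalPComplement_iff.mp hnc)).index_eq_card
    rw [hK, card_map_of_injective E.subtype_injective, ← h1]
    exact ((Fact.out : p.Prime).coprime_iff_not_dvd.mpr P.not_dvd_index).symm
  obtain ⟨k, hk⟩ := P.2.exists_card_eq
  have htr : ∀ (r : ℕ) (R : Subgroup G), r.Prime → r ≠ p → R ≤ K → ¬ r ∣ R.relIndex K →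
      ¬ r ∣ R.relIndex E := by
    intro r R hr hrp hRK hs
    rw [← relIndex_mul_relIndex R K E hRK hKE, hKidx, hk, hr.dvd_mul]
    rintro (h1 | h1)
    · exact hs h1
    · exact hrp ((Nat.prime_dvd_prime_iff_eq hr Fact.out).mp (hr.dvd_of_dvd_pow h1))
  have hhK : SylowClosedOrder K := by
    intro r hr R hRK hRp hs hRc
    refine h r hr R (hRK.trans hKE) hRp (htr r R hr ?_ hRK hs) hRc
    rintro rfl
    refine hRc ?_
    have : R = ⊥ := by
      obtain ⟨j, hj⟩ := hRp.exists_card_eq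
      refine card_eq_one.mp (Nat.eq_one_of_dvd_coprimes (hco.pow_right j) (card_dvd_of_le hRK) hj.dvd)
    rw [this]
    infer_instance
  obtain ⟨r, Q, hr, hQ1, hQK, hQp, hQs, hQn⟩ := IH _ hKcard K hhK hK1 rfl
  haveI := Fact.mk hr
  have hrp : r ≠ p := by
    rintro rfl
    obtain ⟨j, hj⟩ := hQp.exists_card_eq
    exact hQ1 (card_eq_one.mp (Nat.eq_one_of_dvd_coprimes (hco.pow_right j) (card_dvd_of_le hQK) hj.dvd))
  refine ⟨r, Q, hr, hQ1, hQK.trans hKE, hQp, htr r Q hr hrp hQK hQs, fun y hy => ?_⟩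
  refine Transfer.mem_normalizer_of_conj_mem fun a ha => ?_
  have hle : Q.map (MulAut.conj y).toMonoidHom ≤ K := by
    rintro _ ⟨a, ha, rfl⟩
    obtain ⟨b, hb, hbe⟩ := hQK ha
    exact ⟨_, hresn.conj_mem b hb ⟨y, hy⟩, by simp [← hbe]⟩
  exact le_of_sylow_normalized hQK hle hQp (hQp.map _) (hle.trans hQn) hQs ⟨a, ha, rfl⟩

omit [Fact q.Prime] in
private theorem sylowClosedOrder_map {Q E : Subgroup G} [Q.Normal] {r : ℕ} [Fact r.Prime]
    (hQE : Q ≤ E) (hQ : IsPGroup r Q) (hQs : ¬ r ∣ Q.relIndex E) (hEQ : E ≤ normalizer (Q : Set G))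
    (h : SylowClosedOrder E) : SylowClosedOrder (E.map (QuotientGroup.mk' Q)) := by
  set π := QuotientGroup.mk' Q with hπdef
  have hπ : Function.Surjective π := QuotientGroup.mk'_surjective Q
  have hker : π.ker = Q := QuotientGroup.ker_mk' Q
  intro p hp P' hP' hP'p hP's hP'c
  haveI := Fact.mk hp
  set X := P'.comap π with hX
  have hQX : Q ≤ X := hker.ge.trans (MonoidHom.ker_le_comap _ _)
  have hXE : X ≤ E := by
    refine (comap_mono hP').trans (le_of_eq ?_)
    rw [comap_map_eq, hker, sup_eq_left.mpr hQE]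
  have hXP : X.map π = P' := map_comap_eq_self_of_surjective hπ _
  have hrel : X.relIndex E = P'.relIndex (E.map π) := by
    rw [hX, relIndex_comap]
  by_cases hpr : p = r
  · subst hpr
    have hXp : IsPGroup p X := by
      refine hP'p.comap_of_ker_isPGroup π ?_
      rwa [hker]
    have hXQ : X ≤ Q := le_of_sylow_normalized hQE hXE hQ hXp (hXE.trans hEQ) hQs
    refine absurd ?_ hP'c
    rw [← hXP, (Subgroup.map_eq_bot_iff X).mpr (hXQ.trans hker.ge)]
    infer_instance
  obtain ⟨P₀⟩ : Nonempty (Sylow p X) := inferInstance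
  set P := (P₀ : Subgroup X).map X.subtype with hP
  have hPX : P ≤ X := map_subtype_le _
  have hPp : IsPGroup p P := P₀.2.map _
  have hPs : ¬ p ∣ P.relIndex X := by
    show ¬ p ∣ (P.subgroupOf X).index
    rw [hP, subgroupOf, comap_map_eq_self_of_injective X.subtype_injective]
    exact P₀.not_dvd_index
  have hPQ : P ⊓ Q = ⊥ := by
    rw [← disjoint_iff]
    exact IsPGroup.disjoint_of_ne p r hpr P Q hPp hQ
  have hPP' : P.map π = P' := by
    refine le_antisymm (hXP ▸ map_mono hPX) ?_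
    obtain ⟨j, hj⟩ := hP'p.exists_card_eq
    have h1 : (P.map π).relIndex P' ∣ p ^ j := hj ▸ relIndex_dvd_card _ _
    have h2 : (P.map π).relIndex P' ∣ P.relIndex X := by
      rw [← hXP, relIndex_map_map, hker, sup_eq_left.mpr hQX]
      exact relIndex_dvd_of_le_left X le_sup_left
    exact relIndex_eq_one.mp (Nat.eq_one_of_dvd_coprimes
      (((Fact.out : p.Prime).coprime_iff_not_dvd.mpr hPs).symm.pow_right j) h2 h1)
  have hXeq : X = P ⊔ Q := by rw [hX, ← hPP', comap_map_eq, hker]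
  have hPsE : ¬ p ∣ P.relIndex E := by
    rw [← relIndex_mul_relIndex P X E hPX hXE, hrel, hp.dvd_mul]
    exact not_or_intro hPs hP's
  have hcardmap : ∀ F : Subgroup G, F ≤ P → Nat.card (F.map π) = Nat.card F := by
    intro F hFP
    rw [← relIndex_ker, hker, ← inf_relIndex_right, ← relIndex_bot_left F]
    congr 1
    exact le_bot_iff.mp (hPQ ▸ inf_comm P Q ▸ inf_le_inf_left Q hFP)
  obtain ⟨d, hd, hdP, hF⟩ := h p hp P (hPX.trans hXE) hPp hPsE fun hc => hP'c (by
    rw [← hPP']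
    exact isCyclic_of_surjective (π.subgroupMap P) (π.subgroupMap_surjective P))
  refine ⟨d, hd, by rwa [← hPP', hcardmap P le_rfl], fun F' hF'P' hcard => ⟨hF'P', ?_⟩⟩
  set F := P ⊓ F'.comap π with hFdef
  have hFF' : F.map π = F' := by
    refine le_antisymm (map_le_iff_le_comap.mpr inf_le_right) fun f hf => ?_
    obtain ⟨a, ha, rfl⟩ := hPP'.ge (hF'P' hf)
    exact ⟨a, ⟨ha, hf⟩, rfl⟩
  have hFcard : Nat.card F = Nat.card F' := by rw [← hFF', hcardmap F inf_le_left]
  intro x hx g hg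
  obtain ⟨g, rfl⟩ := hπ g
  obtain ⟨a, ha, rfl⟩ := hFF'.ge hx
  have haP : a ∈ P := inf_le_left (a := P) ha
  have hy : g * a * g⁻¹ ∈ X := by
    show π (g * a * g⁻¹) ∈ P'
    simpa using hg
  -- move `g a g⁻¹` into `P` by an element of `Q`
  have hzp : IsPGroup p (zpowers (⟨_, hy⟩ : X)) := by
    obtain ⟨j, hj⟩ := IsPGroup.iff_orderOf.mp hPp ⟨a, haP⟩
    rw [Subgroup.orderOf_mk] at hj
    refine IsPGroup.of_card (n := j) ?_
    rw [Nat.card_zpowers, Subgroup.orderOf_mk]
    exact (orderOf_injective (MulAut.conj g).toMonoidHom (MulAut.conj g).injective a).trans hj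
  obtain ⟨R, hR⟩ := hzp.exists_le_sylow
  obtain ⟨⟨u, hu⟩, hu'⟩ := MulAction.exists_smul_eq X R P₀
  have h1 : u * (g * a * g⁻¹) * u⁻¹ ∈ P :=
    ⟨_, Transfer.conj_mem_of_smul_eq hu' (hR (mem_zpowers _)), rfl⟩
  rw [hXeq] at hu
  obtain ⟨w, hw, s, hs, rfl⟩ := mem_sup_of_normal_right.mp hu
  have h2 : s * g * a * (s * g)⁻¹ ∈ P := by
    have h3 := mul_mem (mul_mem (inv_mem hw) h1) hw
    have e : w⁻¹ * (w * s * (g * a * g⁻¹) * (w * s)⁻¹) * w = s * g * a * (s * g)⁻¹ := by group
    rwa [e] at h3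
  have h4 := (hF F inf_le_left (by rwa [hFcard])).2 a ha (s * g) h2
  have hs1 : π s = 1 := (QuotientGroup.eq_one_iff s).mpr hs
  have h5 := hFF'.le ⟨_, h4, rfl⟩
  simpa [map_mul, map_inv, hs1] using h5

private theorem isSupersolvable_aux : ∀ (k : ℕ) (G : Type u) [Group G] [Finite G], Nat.card G = k →
    ∀ (E : Subgroup G) [E.Normal], Cfsg.IsSupersolvable (G ⧸ E) → SylowClosedOrder E →
    Cfsg.IsSupersolvable G := by
  intro k
  induction k using Nat.strong_induction_on with
  | _ k IH =>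
  intro G _ _ hk E hEn hGE h
  subst hk
  by_cases hE : E = ⊥
  · subst hE
    exact of_mulEquiv hGE QuotientGroup.quotientBot
  obtain ⟨r, Q, hr, hQ1, hQE, hQp, hQs, hEQ⟩ := exists_sylow_normalized E h hE
  haveI := Fact.mk hr
  haveI hQn : Q.Normal := ⟨fun a ha g => by
    have hle : Q.map (MulAut.conj g).toMonoidHom ≤ E := by
      rintro _ ⟨b, hb, rfl⟩
      exact hEn.conj_mem b (hQE hb) g
    exact le_of_sylow_normalized hQE hle hQp (hQp.map _) (hle.trans hEQ) hQs ⟨a, ha, rfl⟩⟩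
  have hReach : Reach Q := by
    by_cases hc : IsCyclic Q
    · exact reach_of_isCyclic Q
    obtain ⟨d, hd, hdQ, hF⟩ := h r hr Q hQE hQp hQs hc
    exact reach_of_normal_order hQp hd hdQ fun F hFQ hcard =>
      ⟨fun f hf g => (hF F hFQ hcard).2 f hf g (hQn.conj_mem f (hFQ hf) g)⟩
  set π := QuotientGroup.mk' Q with hπdef
  have hπ : Function.Surjective π := QuotientGroup.mk'_surjective Q
  haveI hEbn : (E.map π).Normal := hEn.map π hπ
  have hlt : Nat.card (G ⧸ Q) < Nat.card G := card_quotient_lt Q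
    (by haveI := (nontrivial_iff_ne_bot Q).mpr hQ1; exact Finite.one_lt_card)
  have hss : Cfsg.IsSupersolvable (G ⧸ Q) := IH _ hlt (G ⧸ Q) rfl (E.map π)
    (of_mulEquiv hGE (QuotientGroup.quotientQuotientEquivQuotient Q E hQE).symm)
    (sylowClosedOrder_map hQE hQp hQs hEQ h)
  exact of_reach_ker π (by rwa [QuotientGroup.ker_mk']) hss

omit [Fact q.Prime] in
theorem isSupersolvable_of_sylowClosedOrder (E : Subgroup G) [E.Normal]
    (hGE : Cfsg.IsSupersolvable (G ⧸ E)) (h : SylowClosedOrder E) : Cfsg.IsSupersolvable G :=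
  isSupersolvable_aux _ G rfl E hGE h

end Cfsg.Agent.Supersolvable
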